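import Cfsg.Agent.Lib.Perm.JordanCycle
import Cfsg.Agent.Lib.Perm.PrimeCount

/-!
Elements of primitive groups of degree eleven not containing the alternating group.
-/

set_option autoImplicit false
set_option linter.style.haveILetI false

namespace CfsgLib.Perm.Eleven

open MulAction Equiv Equiv.Perm

variable {α : Type*} [Fintype α] [DecidableEq α]

/-- The standing hypothesis: degree eleven, transitive, alternating group not contained. -/
structure Small (G : Subgroup (Perm α)) : Prop where
  card : Fintype.card α = 11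
  trans : IsPretransitive G α
  notAlt : ¬ alternatingGroup α ≤ G

variable {G : Subgroup (Perm α)}

set_option linter.unusedSectionVars false

theorem Small.primitive (h : Small G) : IsPreprimitive G α := by
  haveI := h.trans
  exact IsPreprimitive.of_prime_card (by rw [Nat.card_eq_fintype_card, h.card]; norm_num)

theorem cycleType_of_prime {g : Perm α} {p : ℕ} (hp : p.Prime) (hg : orderOf g = p) :
    ∃ m, g.cycleType = Multiset.replicate (m + 1) p ∧ g.support.card = (m + 1) * p := by
  obtain ⟨m, hm⟩ := cycleType_prime_order (σ := g) (by rw [hg]; exact hp)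
  rw [hg] at hm
  exact ⟨m, hm, by rw [← sum_cycleType, hm, Multiset.sum_replicate, smul_eq_mul]⟩

theorem Small.no_cycle (h : Small G) {g : Perm α} (hg : g ∈ G) {p : ℕ} (hp : p.Prime)
    (hp7 : p ≤ 7) (ho : orderOf g = p) : g.support.card ≠ p := by
  intro hs
  haveI := Fact.mk hp
  refine h.notAlt (alternatingGroup_le_of_prime_cycle h.primitive (p := p) (by rw [h.card]; omega)
    ?_ hs hg)
  exact isCycle_of_prime_order (by rw [ho]; exact hp) (by rw [hs, ho]; have := hp.pos; omega)

theorem Small.support_seven (h : Small G) {g : Perm α} (hg : g ∈ G) : orderOf g ≠ 7 := by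
  intro ho
  obtain ⟨m, -, hs⟩ := cycleType_of_prime (by norm_num) ho
  have := h.no_cycle hg (by norm_num) le_rfl ho
  have := Finset.card_le_univ g.support
  rw [h.card] at this
  omega

theorem Small.support_five (h : Small G) {g : Perm α} (hg : g ∈ G) (ho : orderOf g = 5) :
    g.support.card = 10 := by
  obtain ⟨m, -, hs⟩ := cycleType_of_prime (by norm_num) ho
  have := h.no_cycle hg (by norm_num) (by norm_num) ho
  have := Finset.card_le_univ g.support
  rw [h.card] at this
  omega

theorem Small.support_three (h : Small G) {g : Perm α} (hg : g ∈ G) (ho : orderOf g = 3) :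
    g.support.card = 6 ∨ g.support.card = 9 := by
  obtain ⟨m, -, hs⟩ := cycleType_of_prime (by norm_num) ho
  have := h.no_cycle hg (by norm_num) (by norm_num) ho
  have := Finset.card_le_univ g.support
  rw [h.card] at this
  omega

theorem sign_of_involution {g : Perm α} (ho : orderOf g = 2) {m : ℕ}
    (hs : g.support.card = 2 * m) : sign g = (-1 : ℤˣ) ^ m := by
  obtain ⟨k, hk, hs'⟩ := cycleType_of_prime Nat.prime_two ho
  have hkm : k + 1 = m := by omega
  subst hkm
  rw [sign_of_cycleType, hk, Multiset.sum_replicate, Multiset.card_replicate, smul_eq_mul,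
    pow_add, mul_comm (k + 1) 2, pow_mul]
  norm_num

theorem Small.support_two (h : Small G) {g : Perm α} (hg : g ∈ G) (ho : orderOf g = 2) :
    g.support.card = 4 ∨ g.support.card = 6 ∨ g.support.card = 8 ∨ g.support.card = 10 := by
  obtain ⟨m, -, hs⟩ := cycleType_of_prime Nat.prime_two ho
  have := h.no_cycle hg Nat.prime_two (by norm_num) ho
  have := Finset.card_le_univ g.support
  rw [h.card] at this
  omega

theorem support_two_even {g : Perm α} (hg : g ∈ alternatingGroup α)
    (hα : Fintype.card α = 11) (ho : orderOf g = 2) :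
    g.support.card = 4 ∨ g.support.card = 8 := by
  obtain ⟨m, -, hs⟩ := cycleType_of_prime Nat.prime_two ho
  have h1 : sign g = 1 := mem_alternatingGroup.1 hg
  rw [sign_of_involution ho (m := m + 1) (by omega)] at h1
  have := Finset.card_le_univ g.support
  rw [hα] at this
  have hm : m = 1 ∨ m = 3 := by
    have hle : m ≤ 4 := by omega
    interval_cases m <;> revert h1 <;> simp_all <;> decide
  omega

/-- A group of order `p ^ v`, the full power of `p` in `11!`, contains a conjugate of a `p`-cycle. -/
theorem Small.not_sylow_dvd (h : Small G) {p : ℕ} (hp : p.Prime) (hp7 : p ≤ 7) {v m : ℕ}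
    (hfac : Nat.factorial 11 = p ^ v * m) (hm : ¬ p ∣ m) : ¬ p ^ v ∣ Nat.card G := by
  intro hdvd
  haveI := Fact.mk hp
  obtain ⟨Q, hQ⟩ := Sylow.exists_subgroup_card_pow_prime p hdvd
  have hQ' : Nat.card (Q.map G.subtype) = p ^ v := by
    rw [Subgroup.card_map_of_injective G.subtype_injective, hQ]
  have hv : (Nat.card (Perm α)).factorization p = v := by
    have hm0 : m ≠ 0 := fun e => hm (by simp [e])
    rw [Nat.card_perm, Nat.card_eq_fintype_card, h.card, hfac,
      Nat.factorization_mul (pow_ne_zero _ hp.ne_zero) hm0, Finsupp.add_apply,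
      Nat.Prime.factorization_pow hp, Finsupp.single_eq_same,
      Nat.factorization_eq_zero_of_not_dvd hm, add_zero]
  let S : Sylow p (Perm α) := Sylow.ofCard (Q.map G.subtype) (by rw [hQ', hv])
  have hS : (S : Subgroup (Perm α)) ≤ G := by
    intro x hx
    obtain ⟨y, -, rfl⟩ := hx
    exact y.2
  obtain ⟨c, hc⟩ : ∃ c : Perm α, c.cycleType = {p} := by
    refine (exists_with_cycleType_iff α).2 ⟨?_, fun a ha => ?_⟩
    · rw [Multiset.sum_singleton, h.card]; omega
    · rw [Multiset.mem_singleton] at ha; rw [ha]; exact hp.two_le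
  have hco : orderOf c = p := by rw [← lcm_cycleType, hc]; simp
  have hcs : c.support.card = p := by rw [← sum_cycleType, hc]; simp
  have hcp : IsPGroup p (Subgroup.zpowers c) :=
    IsPGroup.of_card (n := 1) (by rw [Nat.card_zpowers, hco, pow_one])
  obtain ⟨R, hR⟩ := hcp.exists_le_sylow
  obtain ⟨g, hg⟩ := MulAction.exists_smul_eq (Perm α) R S
  have hmem : g * c * g⁻¹ ∈ G := by
    refine hS ?_
    rw [← hg, Sylow.coe_subgroup_smul]
    exact ⟨c, hR (Subgroup.mem_zpowers c), rfl⟩
  refine h.no_cycle hmem hp hp7 ?_ ?_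
  · rw [← MulAut.conj_apply, MulEquiv.orderOf_eq, hco]
  · rw [card_support_conj, hcs]

/-- the only fixed point of an element of order five -/
theorem Small.exists_fixed_five (h : Small G) {y : Perm α} (hy : y ∈ G) (ho : orderOf y = 5) :
    ∃ o, y o = o ∧ ∀ x, y x = x → x = o := by
  have hc : y.supportᶜ.card = 1 := by
    rw [Finset.card_compl, h.support_five hy ho, h.card]
  obtain ⟨o, ho'⟩ := Finset.card_eq_one.1 hc
  refine ⟨o, ?_, fun x hx => ?_⟩
  · have : o ∈ y.supportᶜ := by rw [ho']; exact Finset.mem_singleton_self o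
    simpa using this
  · have : x ∈ y.supportᶜ := by simpa using hx
    rw [ho'] at this
    simpa using this

/-- An element of prime order other than five commuting with an element of order five is a
product of five transpositions. -/
theorem Small.commute_five (h : Small G) {y t : Perm α} (hy : y ∈ G) (hyo : orderOf y = 5)
    {q : ℕ} (hq : q.Prime) (hq5 : q ≠ 5) (hto : orderOf t = q) (hc : Commute t y) :
    q = 2 ∧ t.support.card = 10 ∧ ∀ x, y x = x → t x = x := by
  classical
  obtain ⟨o, hoy, huniq⟩ := h.exists_fixed_five hy hyo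
  have hto' : t o = o := huniq _ (by
    rw [← Perm.mul_apply, ← hc.eq, Perm.mul_apply, hoy])
  haveI := Fact.mk (show Nat.Prime 5 by norm_num)
  let T : SubMulAction (Subgroup.zpowers y) α :=
    { carrier := {x | t x = x}
      smul_mem' := by
        rintro ⟨g, hg⟩ x (hx : t x = x)
        obtain ⟨i, rfl⟩ := Subgroup.mem_zpowers_iff.1 hg
        show t ((y ^ i) x) = (y ^ i) x
        rw [← Perm.mul_apply, (hc.zpow_right i).eq, Perm.mul_apply, hx] }
  have hP : IsPGroup 5 (Subgroup.zpowers y) :=
    IsPGroup.of_card (n := 1) (by rw [Nat.card_zpowers, hyo, pow_one])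
  have hmod := hP.card_modEq_card_fixedPoints T
  have hfix : Nat.card (fixedPoints (Subgroup.zpowers y) T) = 1 := by
    rw [Nat.card_eq_one_iff_unique]
    refine ⟨⟨fun u v => ?_⟩, ⟨⟨⟨o, hto'⟩, fun g => ?_⟩⟩⟩
    · have key : ∀ u : fixedPoints (Subgroup.zpowers y) T, (u.1 : α) = o := fun u =>
        huniq _ (congrArg Subtype.val (u.2 ⟨y, Subgroup.mem_zpowers y⟩))
      exact Subtype.ext (Subtype.ext ((key u).trans (key v).symm))
    · obtain ⟨g, hg⟩ := g
      obtain ⟨i, rfl⟩ := Subgroup.mem_zpowers_iff.1 hg
      exact Subtype.ext (zpow_apply_eq_self_of_apply_eq_self hoy i)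
  have hT : Nat.card T = 11 - t.support.card := by
    have e : Nat.card T = t.supportᶜ.card := by
      rw [← Nat.card_eq_finsetCard]
      exact Nat.card_congr (Equiv.subtypeEquivRight fun x => by
        simp only [Finset.mem_compl, mem_support, not_not]
        rfl)
    rw [e, Finset.card_compl, h.card]
  rw [hfix, hT, Nat.ModEq] at hmod
  obtain ⟨m, -, hs⟩ := cycleType_of_prime hq hto
  have hle := Finset.card_le_univ t.support
  rw [h.card] at hle
  have h2 := hq.two_le
  have hs' : t.support.card = 5 ∨ t.support.card = 10 := by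
    have : t.support.card ≠ 0 := by rw [hs]; exact Nat.mul_ne_zero (by omega) hq.ne_zero
    omega
  have hq2 : q = 2 ∧ t.support.card = 10 := by
    rcases hs' with e | e
    · have : q ∣ 5 := ⟨m + 1, by rw [← e, hs]; ring⟩
      exact absurd ((Nat.prime_dvd_prime_iff_eq hq (by norm_num)).1 this) hq5
    · have : q ∣ 2 * 5 := ⟨m + 1, by rw [show 2 * 5 = t.support.card by rw [e], hs]; ring⟩
      rcases hq.dvd_mul.1 this with d | d
      · exact ⟨(Nat.prime_dvd_prime_iff_eq hq Nat.prime_two).1 d, e⟩
      · exact absurd ((Nat.prime_dvd_prime_iff_eq hq (by norm_num)).1 d) hq5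
  exact ⟨hq2.1, hq2.2, fun x hx => huniq x hx ▸ hto'⟩

/-- the orbit-stabiliser formula for a subgroup -/
theorem orbit_mul_card (K : Subgroup (Perm α)) (c : α) :
    Nat.card (orbit K c) * Nat.card ↥(K ⊓ stabilizer (Perm α) c) = Nat.card K := by
  have e : Nat.card ↥(K ⊓ stabilizer (Perm α) c) = Nat.card (stabilizer K c) :=
    Nat.card_congr
      { toFun := fun g => ⟨⟨g.1, g.2.1⟩, g.2.2⟩
        invFun := fun g => ⟨g.1.1, g.1.2, g.2⟩
        left_inv := fun _ => rfl
        right_inv := fun _ => rfl }
  rw [e, ← (stabilizer K c).card_mul_index, index_stabilizer, mul_comm, Nat.card_coe_set_eq]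

theorem mem_stab {g : Perm α} {a : α} : g ∈ stabilizer (Perm α) a ↔ g a = a := Iff.rfl

theorem card_fixed (g : Perm α) : g.supportᶜ.card + g.support.card = Fintype.card α :=
  Finset.card_compl_add_card _

/-- fixed points bound the support -/
theorem support_le (h : Fintype.card α = 11) {g : Perm α} (s : Finset α)
    (hs : ∀ x ∈ s, g x = x) : g.support.card + s.card ≤ 11 := by
  have : s ⊆ g.supportᶜ := fun x hx => by simpa using hs x hx
  have := Finset.card_le_card this
  have := card_fixed g
  omega

theorem exists_orderOf_of_dvd {K : Subgroup (Perm α)} {p : ℕ} (hp : p.Prime)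
    (h : p ∣ Nat.card K) : ∃ g ∈ K, orderOf g = p := by
  haveI := Fact.mk hp
  obtain ⟨g, hg⟩ := exists_prime_orderOf_dvd_card' p h
  exact ⟨g, g.2, by rwa [Subgroup.orderOf_coe]⟩

end CfsgLib.Perm.Eleven
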