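import Cfsg.Agent.Lib.Perm.DegreeEleven.Odd
import Cfsg.Agent.Lib.Small.PSLPrimes

/-!
Nonsolvable transitive groups of degree eleven.
-/

set_option autoImplicit false
set_option linter.style.haveILetI false
set_option linter.unusedSectionVars false

namespace CfsgLib.Perm.Eleven

open MulAction Equiv Equiv.Perm

variable {α : Type*} [Fintype α] [DecidableEq α] {H : Subgroup (Perm α)}

theorem Even11.simple_660 (h : Even11 H) (hc : Nat.card H = 660) : IsSimpleGroup H := by
  haveI := h.trans
  haveI := Fact.mk (show Nat.Prime 11 by norm_num)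
  haveI : Nontrivial H := Finite.one_lt_card_iff_nontrivial.1 (by rw [hc]; norm_num)
  obtain ⟨P⟩ := (inferInstance : Nonempty (Sylow 11 H))
  obtain ⟨k, n, hcard, -, hnS, hk, hn, -⟩ := exists_counts h.card P
  have hn12 : 12 ≤ n := by
    have hkle := Nat.le_of_dvd (by norm_num) hk
    rw [hc] at hcard
    interval_cases k <;> omega
  refine ⟨fun K hK => or_iff_not_imp_left.2 fun hK0 => ?_⟩
  haveI := normal_isPretransitive h.card K hK0
  obtain ⟨a⟩ : Nonempty α := Fintype.card_pos_iff.1 (by rw [h.card]; norm_num)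
  let K' : Subgroup (Perm α) := K.map H.subtype
  haveI hK't : IsPretransitive K' α := by
    constructor
    intro x y
    obtain ⟨g, hg⟩ := MulAction.exists_smul_eq K x y
    exact ⟨⟨((g : H) : Perm α), g, g.2, rfl⟩, hg⟩
  have hKK' : Nat.card K' = Nat.card K := Subgroup.card_map_of_injective H.subtype_injective
  obtain ⟨Q⟩ := (inferInstance : Nonempty (Sylow 11 K'))
  obtain ⟨k', n', hcard', -, -, hk', hn', hk1'⟩ := exists_counts h.card Q
  have hQdvd : 11 ∣ Nat.card K := by
    rw [← hKK', hcard', mul_assoc]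
    exact dvd_mul_right _ _
  -- every Sylow subgroup of `H` lies in `K`
  have hidx : ¬ 11 ∣ K.index := by
    intro hd
    have h121 := Nat.mul_dvd_mul hQdvd hd
    rw [K.card_mul_index, hc] at h121
    norm_num at h121
  have hle : ∀ S : Sylow 11 H, (S : Subgroup H) ≤ K := by
    intro S g hg
    rw [← QuotientGroup.eq_one_iff]
    have hg11 : g ^ 11 = 1 := by
      have := orderOf_dvd_natCard (⟨g, hg⟩ : (S : Subgroup H))
      rw [card_sylow_eq_prime h.card S, Subgroup.orderOf_mk] at this
      exact orderOf_dvd_iff_pow_eq_one.1 this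
    have h1 : orderOf (g : H ⧸ K) ∣ 11 := orderOf_dvd_of_pow_eq_one (by
      rw [← QuotientGroup.mk_pow, hg11, QuotientGroup.mk_one])
    rcases (Nat.dvd_prime (Fact.out : Nat.Prime 11)).1 h1 with e | e
    · rwa [orderOf_eq_one_iff] at e
    · exfalso
      apply hidx
      conv_lhs => rw [← e]
      exact orderOf_dvd_natCard _
  let φ : Sylow 11 H → Sylow 11 K := fun S => S.subtype (hle S)
  have hφ : Function.Injective φ := fun S T e => by
    apply Sylow.ext
    have e' : (S : Subgroup H).subgroupOf K = (T : Subgroup H).subgroupOf K := congrArg Sylow.toSubgroup e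
    have := congrArg (Subgroup.map K.subtype) e'
    rwa [Subgroup.map_subgroupOf_eq_of_le (hle S), Subgroup.map_subgroupOf_eq_of_le (hle T)] at this
  have hnle : 12 ≤ Nat.card (Sylow 11 K) := by
    have := Nat.card_le_card_of_injective φ hφ
    rw [← hnS] at this
    omega
  have hKle : 132 ≤ Nat.card K := by
    obtain ⟨S⟩ := (inferInstance : Nonempty (Sylow 11 K))
    have hSd := Nat.le_of_dvd (Nat.pos_of_ne_zero Subgroup.index_ne_zero_of_finite) S.card_dvd_index
    have hm := (S : Subgroup K).card_mul_index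
    have hS : 11 ≤ Nat.card (S : Subgroup K) := by
      rw [S.card_eq_multiplicity]
      exact Nat.le_of_dvd (Nat.pow_pos (by norm_num))
        (dvd_pow_self 11 (Nat.pos_iff_ne_zero.1 ((Fact.out : Nat.Prime 11).factorization_pos_of_dvd Nat.card_pos.ne' hQdvd)))
    rw [← hm]
    exact (Nat.mul_le_mul hS (hnle.trans hSd))
  have hdvd : Nat.card K ∣ 660 := hc ▸ Subgroup.card_subgroup_dvd_card K
  rw [← hKK', hcard'] at hdvd hKle
  have hd : k' * n' ∣ 60 := Nat.dvd_of_mul_dvd_mul_left (k := 11) (by norm_num)
    (by rwa [← mul_assoc])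
  have hn60 : n' ≤ 60 := Nat.le_of_dvd (by norm_num) ((dvd_mul_left n' k').trans hd)
  have hk10 := Nat.le_of_dvd (by norm_num) hk'
  have hfull : 11 * k' * n' = 660 := by
    have hmn : n' = 1 ∨ n' = 12 ∨ n' = 23 ∨ n' = 34 ∨ n' = 45 ∨ n' = 56 := by omega
    have hle60 := Nat.le_of_dvd (by norm_num) hd
    rcases hmn with rfl | rfl | rfl | rfl | rfl | rfl <;> interval_cases k' <;> omega
  exact Subgroup.eq_top_of_card_eq K (by rw [← hKK', hcard', hfull, hc])

theorem Small.even_part {G : Subgroup (Perm α)} (hG : Small G) (hns : ¬ Group.IsSolvable G) :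
    Even11 (G ⊓ alternatingGroup α) := by
  haveI := hG.trans
  haveI := Fact.mk (show Nat.Prime 11 by norm_num)
  set H := G ⊓ alternatingGroup α
  let N : Subgroup G := H.subgroupOf G
  have hNker : N = (Equiv.Perm.sign.comp G.subtype).ker := by
    ext g
    simp [N, H, Subgroup.mem_subgroupOf, Equiv.Perm.mem_alternatingGroup]
  haveI : N.Normal := by rw [hNker]; exact MonoidHom.normal_ker _
  have hNns : ¬ Group.IsSolvable N := by
    intro h
    exact hns (Group.isSolvable_of_ker_le_range N.subtype (Equiv.Perm.sign.comp G.subtype)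
      (by rw [Subgroup.range_subtype, hNker]))
  have hN0 : N ≠ ⊥ := by
    intro h
    refine hNns ?_
    rw [h]
    infer_instance
  haveI := normal_isPretransitive hG.card N hN0
  refine { card := hG.card, trans := ⟨fun a b => ?_⟩, notAlt := fun h => hG.notAlt (h.trans inf_le_left),
           even := inf_le_right, nonsolv := fun h => hNns ?_ }
  · obtain ⟨g, hg⟩ := MulAction.exists_smul_eq N a b
    exact ⟨⟨((g : G) : Perm α), g.2⟩, hg⟩
  · exact Group.isSolvable_of_isSolvable_injective
      (f := (Subgroup.subgroupOfEquivOfLe (inf_le_left : H ≤ G)).toMonoidHom) (MulEquiv.injective _)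

theorem classification {G : Subgroup (Perm α)} (hG : Small G) (hns : ¬ Group.IsSolvable G) :
    (IsMultiplyPretransitive G α 4 ∧ ∀ x : Fin 4 ↪ α, stabilizer G x = ⊥) ∨
      Nonempty (G ≃* Matrix.ProjectiveSpecialLinearGroup (Fin 2) (ZMod 11)) := by
  have h := hG.even_part hns
  by_cases hle : G ≤ alternatingGroup α
  · have heq : G ⊓ alternatingGroup α = G := inf_eq_left.2 hle
    rw [heq] at h
    rcases h.order with hc | hc
    · right
      haveI := Fact.mk (show Nat.Prime 11 by norm_num)
      haveI := h.simple_660 hc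
      exact CfsgLib.Small.equiv_PSL_two_11 (by rw [hc]; norm_num) (ZMod.card 11)
    · exact Or.inl ⟨four_transitive h hc, stabilizer_four h hc⟩
  · exfalso
    rcases h.order with hc | hc
    · exact not_odd_660 hG h hle hc
    · exact not_odd_7920 hG h hle hc

end CfsgLib.Perm.Eleven
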