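import Cfsg.Agent.Lib.Perm.DegreeEleven.Sharp

/-!
There is no odd group above the even ones.
-/

set_option autoImplicit false
set_option linter.style.haveILetI false
set_option linter.unusedSectionVars false

namespace CfsgLib.Perm.Eleven

open MulAction Equiv Equiv.Perm

variable {α : Type*} [Fintype α] [DecidableEq α] {G : Subgroup (Perm α)}

variable (hG : Small G) (h : Even11 (G ⊓ alternatingGroup α)) (hodd : ¬ G ≤ alternatingGroup α)

include hodd in
theorem card_twice : Nat.card G = 2 * Nat.card ↥(G ⊓ alternatingGroup α) := by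
  let f : G →* ℤˣ := Equiv.Perm.sign.comp G.subtype
  have hk : Nat.card f.ker = Nat.card ↥(G ⊓ alternatingGroup α) := Nat.card_congr
    { toFun := fun g => ⟨g.1.1, g.1.2, mem_alternatingGroup.2 g.2⟩
      invFun := fun g => ⟨⟨g.1, g.2.1⟩, mem_alternatingGroup.1 g.2.2⟩
      left_inv := fun _ => rfl
      right_inv := fun _ => rfl }
  have h2 : f.ker.index = 2 := by
    rw [Subgroup.index_ker]
    have h1 : Nat.card f.range ∣ 2 := by
      refine (Subgroup.card_subgroup_dvd_card _).trans ?_
      rw [Nat.card_eq_fintype_card, Fintype.card_units_int]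
    refine ((Nat.dvd_prime Nat.prime_two).1 h1).resolve_left fun e => hodd fun g hg => ?_
    have : f.range = ⊥ := Subgroup.card_eq_one.1 e
    have hm : f ⟨g, hg⟩ ∈ f.range := ⟨_, rfl⟩
    rw [this, Subgroup.mem_bot] at hm
    exact mem_alternatingGroup.2 hm
  rw [← f.ker.card_mul_index, h2, hk, mul_comm]

theorem even_of_two_odd {a b : Perm α} (ha : a ∉ alternatingGroup α) (hb : b ∉ alternatingGroup α) :
    a * b ∈ alternatingGroup α := by
  rw [mem_alternatingGroup] at ha hb ⊢
  rcases Int.units_eq_one_or (sign a) with e | e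
  · exact absurd e ha
  rcases Int.units_eq_one_or (sign b) with e' | e'
  · exact absurd e' hb
  rw [map_mul, e, e']; decide

include hG h hodd in
theorem not_odd_7920 (hc : Nat.card ↥(G ⊓ alternatingGroup α) = 7920) : False := by
  classical
  set H := G ⊓ alternatingGroup α with hH
  obtain ⟨g0, hg0, hg0A⟩ := SetLike.not_le_iff_exists.1 hodd
  have h4 := four_transitive h hc
  rw [isMultiplyPretransitive_iff] at h4
  have mapq : ∀ x y : Fin 4 ↪ α, ∃ g ∈ H, ∀ i, g (x i) = y i := fun x y => by
    obtain ⟨⟨g, hg⟩, e⟩ := h4 x y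
    exact ⟨g, hg, fun i => congrArg (fun f : Fin 4 ↪ α => f i) e⟩
  have four : ∀ (g : Perm α) (x : Fin 4 ↪ α), g ∈ H → (∀ i, g (x i) = x i) → g = 1 :=
    fun g x hg hx => eq_one_of_fix_four h hc hg (Finset.univ.map x) (by simp) fun y hy => by
      obtain ⟨i, -, rfl⟩ := Finset.mem_map.1 hy
      exact hx i
  obtain ⟨x⟩ : Nonempty (Fin 4 ↪ α) :=
    Function.Embedding.nonempty_of_card_le (by rw [Fintype.card_fin, h.card]; norm_num)
  obtain ⟨k, hk, hkx⟩ := mapq x (x.trans g0.toEmbedding)
  set σ := k⁻¹ * g0 with hσ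
  have hσG : σ ∈ G := G.mul_mem (G.inv_mem hk.1) hg0
  have hσA : σ ∉ alternatingGroup α := fun e => hg0A <| by
    have := (alternatingGroup α).mul_mem hk.2 e
    rwa [hσ, mul_inv_cancel_left] at this
  have hσx : ∀ i, σ (x i) = x i := fun i => by
    rw [hσ, Perm.mul_apply, Perm.inv_eq_iff_eq, hkx i]; rfl
  have hσ1 : σ ≠ 1 := fun e => hσA (e ▸ one_mem _)
  have hσ2 : σ ^ 2 = 1 := by
    rw [sq]
    exact four _ x ⟨G.mul_mem hσG hσG, even_of_two_odd hσA hσA⟩ fun i => by
      rw [Perm.mul_apply, hσx, hσx]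
  haveI := Fact.mk Nat.prime_two
  have hσo : orderOf σ = 2 := orderOf_eq_prime hσ2 hσ1
  have hs : σ.support.card = 6 := by
    have hle := support_le h.card (g := σ) (Finset.univ.map x) fun y hy => by
      obtain ⟨i, -, rfl⟩ := Finset.mem_map.1 hy
      exact hσx i
    rw [Finset.card_map, Finset.card_univ, Fintype.card_fin] at hle
    rcases hG.support_two hσG hσo with e | e | e | e
    · exfalso
      apply hσA
      rw [mem_alternatingGroup, sign_of_involution hσo (m := 2) (by omega)]
      decide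
    all_goals omega
  have hF : σ.supportᶜ.card = 5 := by have := card_fixed σ; rw [h.card] at this; omega
  let f : Fin 5 ≃ ↥(σ.supportᶜ) := (σ.supportᶜ.equivFinOfCardEq hF).symm
  have hfσ : ∀ i, σ (f i) = f i := fun i => by
    have := (f i).2
    simpa only [Finset.mem_compl, mem_support, not_not] using this
  let quad : Fin 5 → Fin 4 ↪ α := fun i =>
    ⟨fun k => f (i + k.castSucc), fun k k' e =>
      Fin.castSucc_inj.1 (add_left_cancel (f.injective (Subtype.ext e)))⟩
  set C := G ⊓ Subgroup.centralizer ({σ} : Set (Perm α)) with hC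
  have horb : orbit C (f 0 : α) = ↑(σ.supportᶜ) := by
    refine Set.Subset.antisymm ?_ fun d hd => ?_
    · rintro _ ⟨⟨g, hg⟩, rfl⟩
      rw [Finset.mem_coe, Finset.mem_compl, mem_support, not_not]
      show σ (g (f 0)) = g (f 0)
      rw [← Perm.mul_apply, ← Subgroup.mem_centralizer_singleton_iff.1 hg.2, Perm.mul_apply, hfσ]
    · obtain ⟨j, hj⟩ : ∃ j, (f j : α) = d := ⟨f.symm ⟨d, hd⟩, by simp⟩
      obtain ⟨g, hg, hgq⟩ := mapq (quad 0) (quad j)
      have hconj : g * σ * g⁻¹ = σ := by
        refine mul_inv_eq_one.1 (four _ (quad j) ⟨G.mul_mem (G.mul_mem (G.mul_mem hg.1 hσG)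
          (G.inv_mem hg.1)) (G.inv_mem hσG), even_of_two_odd ?_ ?_⟩ fun i => ?_)
        · rw [mem_alternatingGroup, map_mul, map_mul, map_inv, mul_inv_cancel_comm]
          exact fun e => hσA (mem_alternatingGroup.2 e)
        · rwa [inv_mem_iff]
        · have : σ⁻¹ (quad j i) = quad j i := by
            rw [Perm.inv_eq_iff_eq]; exact (hfσ _).symm
          rw [Perm.mul_apply, this, ← hgq i, Perm.mul_apply, Perm.mul_apply]
          have : g⁻¹ (g (quad 0 i)) = quad 0 i := by simp
          rw [this]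
          congr 1
          exact hfσ _
      refine ⟨⟨g, hg.1, Subgroup.mem_centralizer_singleton_iff.2
        (mul_inv_eq_iff_eq_mul.1 hconj)⟩, ?_⟩
      have := hgq 0
      show g (f 0 : α) = d
      rw [← hj]
      have e0 : ∀ i, quad i 0 = (f i : α) := fun i => by
        show (f (i + Fin.castSucc (0 : Fin 4)) : α) = f i
        simp
      rw [e0, e0] at this
      exact this
  have h5 : 5 ∣ Nat.card C := by
    rw [← orbit_mul_card C (f 0 : α), horb, Nat.card_coe_set_eq, Set.ncard_coe_finset, hF]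
    exact dvd_mul_right _ _
  obtain ⟨y, hy, hyo⟩ := exists_orderOf_of_dvd (by norm_num) h5
  have := (hG.commute_five hy.1 hyo Nat.prime_two (by norm_num) hσo
    (Subgroup.mem_centralizer_singleton_iff.1 hy.2).symm).2.1
  omega

include hG h hodd in
/-- in order 1320 there are commuting elements of orders two (odd) and five -/
theorem exists_pair (hc : Nat.card ↥(G ⊓ alternatingGroup α) = 660) :
    ∃ (a : α) (z y : Perm α), z ∈ G ∧ y ∈ G ∧ z ∉ alternatingGroup α ∧ orderOf z = 2 ∧
      orderOf y = 5 ∧ Commute z y ∧ z a = a ∧ y a = a := by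
  haveI := hG.trans
  haveI := Fact.mk (show Nat.Prime 11 by norm_num)
  have hcard : Nat.card G = 1320 := by rw [card_twice hodd, hc]
  obtain ⟨P⟩ := (inferInstance : Nonempty (Sylow 11 G))
  obtain ⟨k, n, hG', hN, -, hk, hn, -⟩ := exists_counts hG.card P
  have hk10 : k = 10 := by
    have hkle := Nat.le_of_dvd (by norm_num) hk
    rw [hcard] at hG'
    interval_cases k <;> omega
  subst hk10
  obtain ⟨σ, s, e, hσ, he, hs1, hss, hs⟩ :=
    exists_coord_neg hG.card (by norm_num) P (by rw [hN]; decide)
  haveI := Fact.mk (show Nat.Prime 5 by norm_num)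
  -- an element of order five normalising `σ`
  let P' : Sylow 11 G := Sylow.ofCard (Subgroup.zpowers σ) (by
    rw [Nat.card_zpowers, hσ, hcard, show 1320 = 11 * 120 by norm_num,
      Nat.factorization_mul (by norm_num) (by norm_num), Finsupp.add_apply,
      Nat.Prime.factorization_self (by norm_num),
      Nat.factorization_eq_zero_of_not_dvd (by norm_num), pow_one])
  obtain ⟨k', n', hG2, hN', -, hk', hn', -⟩ := exists_counts hG.card P'
  have hk10' : k' = 10 := by
    have hkle := Nat.le_of_dvd (by norm_num) hk'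
    rw [hcard] at hG2
    interval_cases k' <;> omega
  obtain ⟨⟨w, hwN⟩, hwo⟩ := exists_prime_orderOf_dvd_card'
    (G := Subgroup.normalizer ((P' : Subgroup G) : Set G)) 5 (by rw [hN', hk10']; decide)
  rw [Subgroup.orderOf_mk] at hwo
  have hconj : w * σ * w⁻¹ ∈ Subgroup.zpowers σ :=
    (Subgroup.mem_normalizer_iff.1 hwN σ).1 (Subgroup.mem_zpowers σ)
  obtain ⟨m, hm⟩ := mem_powers_iff_mem_zpowers.2 hconj
  have haff := affine_of_conj_eq_pow he hm.symm
  set c := e.symm (w • e 0) with hcdef
  set m' : ZMod 11 := (m : ZMod 11) with hm'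
  have hm5 : m' ^ 5 = 1 := by
    have hit : ∀ j, (w ^ 5) • e j = e (m' ^ 5 * j + c * (m' ^ 4 + m' ^ 3 + m' ^ 2 + m' + 1)) :=
      fun j => by
        rw [show w ^ 5 = w * (w * (w * (w * w))) by simp only [pow_succ, pow_zero, one_mul, mul_assoc], mul_smul, mul_smul, mul_smul, mul_smul,
          haff, haff, haff, haff, haff]
        congr 1; ring
    have h0 := hit 0
    have h1 := hit 1
    rw [show w ^ 5 = 1 by rw [← hwo, pow_orderOf_eq_one], one_smul] at h0 h1
    have h0' := e.injective h0
    have h1' := e.injective h1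
    linear_combination h0' - h1'
  -- move the fixed point to zero
  obtain ⟨w', hw'⟩ : ∃ w', w' = σ ^ ((-c).val) * w := ⟨_, rfl⟩
  have hw'e : ∀ j, w' • e j = e (m' * j) := fun j => by
    rw [hw', mul_smul, haff, he.pow_smul, ZMod.natCast_val, ZMod.cast_id]
    congr 1; ring
  have ext' : ∀ u v : G, (∀ j, u • e j = v • e j) → u = v := fun u v huv =>
    Subtype.ext (Equiv.ext fun x => by
      obtain ⟨j, rfl⟩ := e.surjective x
      exact huv j)
  have hw5 : w' ^ 5 = 1 := ext' _ _ fun j => by
    rw [show w' ^ 5 = w' * (w' * (w' * (w' * w'))) by simp only [pow_succ, pow_zero, one_mul, mul_assoc], mul_smul, mul_smul, mul_smul, mul_smul,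
      hw'e, hw'e, hw'e, hw'e, hw'e, one_smul]
    congr 1
    linear_combination j * hm5
  have hw1 : w' ≠ 1 := by
    intro e1
    rw [hw'] at e1
    have : w ∈ Subgroup.zpowers σ := by
      have h' : w = (σ ^ ((-c).val))⁻¹ := eq_inv_of_mul_eq_one_right e1
      rw [h']
      exact inv_mem (pow_mem (Subgroup.mem_zpowers σ) _)
    have hd := Subgroup.orderOf_dvd_natCard _ this
    rw [Nat.card_zpowers, hσ, hwo] at hd
    norm_num at hd
  have hso : orderOf s = 2 := by
    haveI := Fact.mk Nat.prime_two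
    exact orderOf_eq_prime (by rw [sq, hss]) hs1
  have hse : (s : Perm α) = e.permCongr (Equiv.neg (ZMod 11)) := Equiv.ext fun x => by
    obtain ⟨j, rfl⟩ := e.surjective x
    simpa [Subgroup.smul_def] using hs j
  refine ⟨e 0, s, w', s.2, w'.2, fun hA => ?_, by rw [Subgroup.orderOf_coe, hso],
    by rw [Subgroup.orderOf_coe, orderOf_eq_prime hw5 hw1], ?_, ?_, ?_⟩
  · rw [mem_alternatingGroup, hse, sign_permCongr, neg_sign] at hA
    exact absurd hA (by decide)
  · have : s * w' = w' * s := ext' _ _ fun j => by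
      rw [mul_smul, mul_smul, hw'e, hs, hs, hw'e]
      congr 1; ring
    exact congrArg Subtype.val this
  · have := hs 0
    rwa [neg_zero] at this
  · have := hw'e 0
    rwa [mul_zero] at this

include hG h hodd in
theorem not_odd_660 (hc : Nat.card ↥(G ⊓ alternatingGroup α) = 660) : False := by
  classical
  obtain ⟨a, z, y, hzG, hyG, hzA, hzo, hyo, hzy, hza, hya⟩ := exists_pair hG h hodd hc
  set H := G ⊓ alternatingGroup α with hH
  haveI := Fact.mk (show Nat.Prime 5 by norm_num)
  haveI := hG.trans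
  have hcard : Nat.card G = 1320 := by rw [card_twice hodd, hc]
  set K := G ⊓ stabilizer (Perm α) a with hKdef
  have hK : Nat.card K = 120 := by
    have e : Nat.card (orbit G a) = 11 := by
      rw [orbit_eq_univ, Nat.card_coe_set_eq, Set.ncard_univ, Nat.card_eq_fintype_card, h.card]
    have := orbit_mul_card G a
    rw [e, hcard] at this
    have : 11 * Nat.card K = 1320 := this
    omega
  let y' : K := ⟨y, hyG, hya⟩
  let z' : K := ⟨z, hzG, hza⟩
  have hy'o : orderOf y' = 5 := by rw [← Subgroup.orderOf_coe]; exact hyo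
  have hz'o : orderOf z' = 2 := by rw [← Subgroup.orderOf_coe]; exact hzo
  have hz'y : Commute z' y' := Subtype.ext hzy
  have hyA : y ∈ alternatingGroup α := by
    rw [mem_alternatingGroup]
    rcases Int.units_eq_one_or (sign y) with e | e
    · exact e
    · have : sign (y ^ 5) = 1 := by rw [← hyo, pow_orderOf_eq_one, map_one]
      rw [map_pow, e] at this
      exact absurd this (by decide)
  have hyH : y ∈ H := ⟨hyG, hyA⟩
  let R : Sylow 5 K := Sylow.ofCard (Subgroup.zpowers y') (by
    rw [Nat.card_zpowers, hy'o, hK, show 120 = 5 * 24 by norm_num,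
      Nat.factorization_mul (by norm_num) (by norm_num), Finsupp.add_apply,
      Nat.Prime.factorization_self (by norm_num),
      Nat.factorization_eq_zero_of_not_dvd (by norm_num), pow_one])
  have hR : (R : Subgroup K) = Subgroup.zpowers y' := rfl
  -- the normaliser
  set N := Subgroup.normalizer ((R : Subgroup K) : Set K) with hNdef
  set C := Subgroup.centralizer ((R : Subgroup K) : Set K) with hCdef
  have hCy : ∀ g ∈ C, Commute (g : Perm α) y := fun g hg => by
    have := Subgroup.mem_centralizer_iff.1 hg y' (Subgroup.mem_zpowers y')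
    exact congrArg Subtype.val this.symm
  have hC10 : Nat.card C ∣ 10 := by
    let f : C →* ℤˣ := (Equiv.Perm.sign.comp K.subtype).comp C.subtype
    have hr : Nat.card f.range ∣ 2 := by
      refine (Subgroup.card_subgroup_dvd_card _).trans ?_
      rw [Nat.card_eq_fintype_card, Fintype.card_units_int]
    have hk : Nat.card f.ker ∣ 5 := by
      rw [← h.card_centralizer_five hyH hyo]
      refine Subgroup.card_dvd_of_injective
        ({ toFun := fun g => ⟨((g.1 : K) : Perm α), ⟨(g.1 : K).2.1, mem_alternatingGroup.2 g.2⟩,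
             Subgroup.mem_centralizer_singleton_iff.2 (hCy _ g.1.2)⟩
           map_one' := rfl
           map_mul' := fun _ _ => rfl } : f.ker →* _) ?_
      intro u v huv
      exact Subtype.ext (Subtype.ext (Subtype.ext (congrArg Subtype.val huv :)))
    rw [← f.ker.card_mul_index, Subgroup.index_ker]
    exact Nat.mul_dvd_mul hk hr
  have hzC : z' ∈ C := by
    rw [hCdef, hR, Subgroup.zpowers_eq_closure, Subgroup.centralizer_closure,
      Subgroup.mem_centralizer_singleton_iff]
    exact hz'y
  have hCeq : Nat.card C = 10 := by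
    have h2 : 2 ∣ Nat.card C := hz'o ▸ Subgroup.orderOf_dvd_natCard C hzC
    have h5 : 5 ∣ Nat.card C := by
      rw [← hy'o]
      refine Subgroup.orderOf_dvd_natCard C ?_
      rw [hCdef, hR, Subgroup.zpowers_eq_closure, Subgroup.centralizer_closure,
        Subgroup.mem_centralizer_singleton_iff]
    have := Nat.le_of_dvd (by norm_num) hC10
    have := Nat.card_pos (α := C)
    omega
  have hN40 : Nat.card N ∣ 40 := by
    let f := (R : Subgroup K).normalizerMonoidHom
    have hk : Nat.card f.ker ∣ 10 := by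
      rw [Subgroup.normalizerMonoidHom_ker, Nat.card_congr (Subgroup.subgroupOfEquivOfLe ?_).toEquiv]
      · exact hC10
      · exact Subgroup.centralizer_le_normalizer _
    have hcyc : IsCyclic (R : Subgroup K) := by rw [hR]; infer_instance
    have hr : Nat.card f.range ∣ 4 := by
      refine (Subgroup.card_subgroup_dvd_card f.range).trans ?_
      rw [IsCyclic.card_mulAut]
      show Nat.totient (Nat.card (Subgroup.zpowers y')) ∣ 4
      rw [Nat.card_zpowers, hy'o, Nat.totient_prime (by norm_num)]
    rw [← f.ker.card_mul_index, Subgroup.index_ker]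
    exact (Nat.mul_dvd_mul hk hr)
  have hN : Nat.card N = 20 ∧ N.index = 6 := by
    have h10 : 10 ∣ Nat.card N := hCeq ▸ Subgroup.card_dvd_of_le (Subgroup.centralizer_le_normalizer _)
    have hmod := card_sylow_modEq_one 5 K
    rw [R.card_eq_index_normalizer, Nat.ModEq] at hmod
    have hmul := N.card_mul_index
    rw [hK] at hmul
    have hle := Nat.le_of_dvd (by norm_num) hN40
    generalize Nat.card N = c at h10 hN40 hle hmul
    generalize N.index = d at hmod hmul
    interval_cases c <;> omega
  have hS6 : Nat.card (Sylow 5 K) = 6 := by rw [R.card_eq_index_normalizer]; exact hN.2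
  -- `z` normalises every Sylow subgroup
  have hself : ∀ Q : Sylow 5 K, y' • Q = Q → Q = R := by
    intro Q hQ
    have hy'N : y' ∈ Subgroup.normalizer ((Q : Subgroup K) : Set K) :=
      Sylow.smul_eq_iff_mem_normalizer.1 hQ
    have hle : (R : Subgroup K) ≤ Q := by
      have h1 := R.2.inf_normalizer_sylow Q
      have h2 : (R : Subgroup K) ≤ Subgroup.normalizer ((Q : Subgroup K) : Set K) := by
        rw [hR, Subgroup.zpowers_le]; exact hy'N
      exact (le_inf le_rfl h2).trans (h1.le.trans inf_le_right)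
    exact Sylow.ext (R.3 Q.2 hle)
  have hzR : z' • R = R := Sylow.smul_eq_iff_mem_normalizer.2
    (Subgroup.centralizer_le_normalizer _ hzC)
  have hzfix : ∀ Q : Sylow 5 K, z' • Q = Q := by
    intro Q
    by_cases hQR : Q = R
    · rw [hQR, hzR]
    let O := orbit (Subgroup.zpowers y') Q
    have hOdvd : Nat.card O ∣ 5 := by
      have hh := (stabilizer (Subgroup.zpowers y') Q).index_dvd_card
      rw [index_stabilizer, Nat.card_zpowers, hy'o, ← Nat.card_coe_set_eq] at hh
      exact hh
    have hO5 : Nat.card O = 5 := by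
      refine ((Nat.dvd_prime (by norm_num)).1 hOdvd).resolve_left fun e => hQR (hself Q ?_)
      have := (Nat.card_eq_one_iff_unique.1 e).1
      exact congrArg Subtype.val (Subsingleton.elim
        (⟨y' • Q, ⟨⟨y', Subgroup.mem_zpowers y'⟩, rfl⟩⟩ : O) ⟨Q, mem_orbit_self Q⟩)
    have hRO : R ∉ O := by
      rintro ⟨⟨g, hg⟩, e⟩
      apply hQR
      have hgQ : g • Q = R := e
      have hgN : g⁻¹ • R = R := Sylow.smul_eq_iff_mem_normalizer.2
        (inv_mem (Subgroup.le_normalizer (show g ∈ (R : Subgroup K) from hg)))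
      calc Q = g⁻¹ • (g • Q) := (inv_smul_smul g Q).symm
        _ = R := by rw [hgQ, hgN]
    have hOeq : O = ({R} : Set (Sylow 5 K))ᶜ := by
      refine Set.eq_of_subset_of_ncard_le (fun X hX e => hRO (by rw [← Set.mem_singleton_iff.1 e]; exact hX))
        ?_ (Set.toFinite _)
      rw [Set.ncard_compl, Set.ncard_singleton, hS6, ← Nat.card_coe_set_eq, hO5]
    have hzQ : z' • Q ∈ O := by
      rw [hOeq]
      intro e
      rw [Set.mem_singleton_iff, ← hzR] at e
      exact hQR (MulAction.injective z' e)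
    obtain ⟨⟨g, hg⟩, hgQ⟩ := hzQ
    have hgQ' : g • Q = z' • Q := hgQ
    obtain ⟨i, rfl⟩ := Subgroup.mem_zpowers_iff.1 hg
    have hzz : z' * z' = 1 := by rw [← sq, ← hz'o, pow_orderOf_eq_one]
    have h2i : (y' ^ i * y' ^ i) • Q = Q := by
      calc (y' ^ i * y' ^ i) • Q = y' ^ i • (z' • Q) := by rw [mul_smul, hgQ']
        _ = z' • (y' ^ i • Q) := by rw [← mul_smul, ← mul_smul, (hz'y.zpow_right i).eq]
        _ = Q := by rw [hgQ', ← mul_smul, hzz, one_smul]
    have hi : y' ^ i = (y' ^ i * y' ^ i) ^ 3 := by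
      have h5 : (y' ^ i) ^ 5 = 1 := by
        rw [← zpow_natCast, ← zpow_mul, mul_comm, zpow_mul, zpow_natCast, ← hy'o,
          pow_orderOf_eq_one, one_zpow]
      rw [← sq, ← pow_mul, show 2 * 3 = 5 + 1 from rfl, pow_add, h5, one_mul, pow_one]
    have hfixpow : ∀ n : ℕ, (y' ^ i * y' ^ i) ^ n • Q = Q := fun n =>
      pow_mem (show y' ^ i * y' ^ i ∈ stabilizer K Q from h2i) n
    rw [← hgQ', hi]
    exact hfixpow 3
  -- the kernel meets `H` trivially
  set ker := (MulAction.toPermHom K (Sylow 5 K)).ker with hker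
  have hkermem : ∀ g : K, g ∈ ker ↔ ∀ Q : Sylow 5 K, g • Q = Q := fun g => by
    rw [hker, MonoidHom.mem_ker, Equiv.ext_iff]
    rfl
  haveI : (H.subgroupOf K).Normal := ⟨fun u hu g => by
    refine ⟨G.mul_mem (G.mul_mem g.2.1 hu.1) (G.inv_mem g.2.1), ?_⟩
    refine mem_alternatingGroup.2 ?_
    have h1 : sign (u : Perm α) = 1 := mem_alternatingGroup.1 hu.2
    show sign ((g : Perm α) * (u : Perm α) * (g : Perm α)⁻¹) = 1
    rw [map_mul, map_mul, map_inv, h1, mul_one, mul_inv_cancel]⟩
  set M := ker ⊓ H.subgroupOf K with hM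
  have hkN : ∀ g ∈ M, g ∈ N := fun g hg =>
    Sylow.smul_eq_iff_mem_normalizer.1 ((hkermem g).1 hg.1 R)
  have hM5 : ¬ 5 ∣ Nat.card M := by
    intro hd
    obtain ⟨⟨g, hg⟩, hgo⟩ := exists_prime_orderOf_dvd_card' (G := M) 5 hd
    rw [Subgroup.orderOf_mk] at hgo
    have key : ∀ Q : Sylow 5 K, (Q : Subgroup K) = Subgroup.zpowers g := by
      intro Q
      have hle : Subgroup.zpowers g ≤ (Q : Subgroup K) := by
        have hp : IsPGroup 5 (Subgroup.zpowers g) :=
          IsPGroup.of_card (n := 1) (by rw [Nat.card_zpowers, hgo, pow_one])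
        have h1 := hp.inf_normalizer_sylow Q
        have h2 : Subgroup.zpowers g ≤ Subgroup.normalizer ((Q : Subgroup K) : Set K) := by
          rw [Subgroup.zpowers_le]
          exact Sylow.smul_eq_iff_mem_normalizer.1 ((hkermem g).1 hg.1 Q)
        exact (le_inf le_rfl h2).trans (h1.le.trans inf_le_right)
      refine (Subgroup.eq_of_le_of_card_ge hle ?_).symm
      have e1 : Nat.card (Q : Subgroup K) = Nat.card (R : Subgroup K) := by
        rw [Q.card_eq_multiplicity, R.card_eq_multiplicity]
      rw [e1, hR, Nat.card_zpowers, Nat.card_zpowers, hy'o, hgo]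
    have hle1 : Nat.card (Sylow 5 K) ≤ 1 :=
      Finite.card_le_one_iff_subsingleton.2 ⟨fun Q Q' => Sylow.ext ((key Q).trans (key Q').symm)⟩
    omega
  have hM20 : Nat.card M ∣ 4 := by
    have hd : Nat.card M ∣ 4 * 5 := by
      have := Subgroup.card_dvd_of_le (fun g hg => hkN g hg : M ≤ N)
      rwa [hN.1] at this
    exact ((Nat.Prime.coprime_iff_not_dvd (by norm_num)).2 hM5).symm.dvd_of_dvd_mul_right hd
  have hM1 : ∀ g ∈ M, g = 1 := by
    intro g hg
    by_contra hg1
    -- the conjugates of `g` by the powers of `y`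
    let φ : Fin 5 → M := fun i => ⟨y' ^ (i : ℕ) * g * (y' ^ (i : ℕ))⁻¹, (inferInstance : M.Normal).conj_mem g hg _⟩
    have hle : Nat.card M ≤ 4 := Nat.le_of_dvd (by norm_num) hM20
    obtain ⟨i, j, hij, hφ⟩ : ∃ i j : Fin 5, i ≠ j ∧ φ i = φ j := by
      by_contra! hno
      have := Nat.card_le_card_of_injective φ fun i j e => by_contra fun hne => hno i j hne e
      rw [Nat.card_eq_fintype_card, Fintype.card_fin] at this
      omega
    have hcomm : ∀ i j : ℕ, i < j → j < 5 → y' ^ i * g * (y' ^ i)⁻¹ = y' ^ j * g * (y' ^ j)⁻¹ →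
        Commute y' g := by
      intro i j hlt hj e
      set d := j - i with hd
      have hjd : j = i + d := by omega
      have hcd : y' ^ d * g * (y' ^ d)⁻¹ = g := by
        rw [hjd, pow_add, mul_inv_rev] at e
        have e' : y' ^ i * (y' ^ d * g * (y' ^ d)⁻¹) * (y' ^ i)⁻¹ = y' ^ i * g * (y' ^ i)⁻¹ := by
          rw [e]; simp only [mul_assoc]
        exact mul_left_cancel (mul_right_cancel e')
      have hcd' : Commute (y' ^ d) g := mul_inv_eq_iff_eq_mul.1 hcd
      obtain ⟨r, hr⟩ : ∃ r : ℕ, (d * r) % 5 = 1 := by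
        have : d = 1 ∨ d = 2 ∨ d = 3 ∨ d = 4 := by omega
        rcases this with e | e | e | e <;> rw [e]
        exacts [⟨1, rfl⟩, ⟨3, rfl⟩, ⟨2, rfl⟩, ⟨4, rfl⟩]
      have : (y' ^ d) ^ r = y' := by rw [← pow_mul, ← pow_mod_orderOf, hy'o, hr, pow_one]
      rw [← this]
      exact hcd'.pow_left r
    have hc' : Commute y' g := by
      rcases lt_or_gt_of_ne (Fin.val_ne_of_ne hij) with hlt | hlt
      · exact hcomm i j hlt j.2 (congrArg Subtype.val hφ)
      · exact hcomm j i hlt i.2 (congrArg Subtype.val hφ).symm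
    have hg5 : orderOf (g : Perm α) ∣ 5 := by
      rw [← h.card_centralizer_five hyH hyo]
      exact Subgroup.orderOf_dvd_natCard _
        (show (g : Perm α) ∈ H ⊓ Subgroup.centralizer ({y} : Set (Perm α)) from
          ⟨hg.2, Subgroup.mem_centralizer_singleton_iff.2 (congrArg Subtype.val hc'.symm.eq)⟩)
    have hg4 : orderOf (g : Perm α) ∣ 4 := by
      rw [Subgroup.orderOf_coe]
      exact (Subgroup.orderOf_dvd_natCard M hg).trans hM20
    have := Nat.dvd_gcd hg4 hg5
    rw [show Nat.gcd 4 5 = 1 from rfl, Nat.dvd_one, Subgroup.orderOf_coe, orderOf_eq_one_iff] at this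
    exact hg1 this
  -- so `z` commutes with the point stabiliser in `H`
  have hzH : ∀ u ∈ H, u a = a → Commute z u := by
    intro u hu hua
    let u' : K := ⟨u, hu.1, hua⟩
    have hzk : z' ∈ ker := (hkermem z').2 hzfix
    have hcM : z' * u' * z'⁻¹ * u'⁻¹ ∈ M := by
      refine Subgroup.mem_inf.2 ⟨?_, ?_⟩
      · have : z' * u' * z'⁻¹ * u'⁻¹ = z' * (u' * z'⁻¹ * u'⁻¹) := by simp only [mul_assoc]
        rw [this]
        exact mul_mem hzk ((inferInstance : ker.Normal).conj_mem _ (inv_mem hzk) _)
      · have hu' : u' ∈ H.subgroupOf K := hu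
        exact mul_mem ((inferInstance : (H.subgroupOf K).Normal).conj_mem _ hu' z') (inv_mem hu')
    have := hM1 _ hcM
    exact congrArg Subtype.val (show z' * u' = u' * z' from mul_inv_eq_iff_eq_mul.1 (mul_inv_eq_one.1 this))
  -- an element of order three fixing three points
  obtain ⟨b, hba⟩ := Fintype.exists_ne_of_one_lt_card (by rw [h.card]; norm_num) a
  have h6 := h.card_pairSt hba.symm
  obtain ⟨g, hg, hgo⟩ := exists_orderOf_of_dvd (K := pairSt H a b) Nat.prime_three
    ⟨2, by omega⟩
  obtain ⟨hgH, hga, hgb⟩ := mem_pairSt.1 hg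
  have hzg := hzH g hgH hga
  have hgzb : g (z b) = z b := by rw [← Perm.mul_apply, ← hzg.eq, Perm.mul_apply, hgb]
  obtain ⟨o, -, huniq⟩ := hG.exists_fixed_five hyG hyo
  have hzs := (hG.commute_five hyG hyo Nat.prime_two (by norm_num) hzo hzy).2.1
  have hzb : z b ≠ b := by
    intro e
    have := support_le h.card (g := z) {a, b} fun x hx => by
      simp only [Finset.mem_insert, Finset.mem_singleton] at hx
      rcases hx with rfl | rfl <;> assumption
    rw [Finset.card_pair hba.symm] at this
    omega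
  have hzba : z b ≠ a := fun e => hba (z.injective (e.trans hza.symm))
  have := support_le h.card (g := g) {a, b, z b} fun x hx => by
    simp only [Finset.mem_insert, Finset.mem_singleton] at hx
    rcases hx with rfl | rfl | rfl <;> assumption
  rw [Finset.card_eq_three.2 ⟨a, b, z b, hba.symm, hzba.symm, hzb.symm, rfl⟩,
    h.three_660 hc hgH hgo] at this
  omega

end CfsgLib.Perm.Eleven
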