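import Cfsg.Agent.Lib.Perm.DegreeEleven.Basic
import Cfsg.Agent.Lib.Perm.DegreeSeven

/-!
The possible orders of transitive even groups of degree eleven.
-/

set_option autoImplicit false
set_option linter.style.haveILetI false
set_option linter.unusedSectionVars false

namespace CfsgLib.Perm.Eleven

open MulAction Equiv Equiv.Perm

variable {α : Type*} [Fintype α] [DecidableEq α]

/-- The standing hypothesis for the even part. -/
structure Even11 (H : Subgroup (Perm α)) : Prop extends Small H where
  even : H ≤ alternatingGroup α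
  nonsolv : ¬ Group.IsSolvable H

variable {H : Subgroup (Perm α)}

theorem neg_sign : sign (Equiv.neg (ZMod 11)) = -1 := by decide +kernel

theorem Even11.two_trans (h : Even11 H) : IsMultiplyPretransitive H α 2 := by
  haveI := h.trans
  haveI := Fact.mk (show Nat.Prime 11 by norm_num)
  exact two_transitive h.card h.nonsolv

theorem Even11.two_dvd (h : Even11 H) : 110 ∣ Nat.card H := by
  have := dvd_card_of_transitive_tuples h.two_trans (by rw [h.card]; norm_num)
  rwa [h.card] at this

theorem card_alt (hα : Fintype.card α = 11) : Nat.card (alternatingGroup α) = 19958400 := by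
  haveI : Nontrivial α := Fintype.one_lt_card_iff_nontrivial.1 (by omega)
  have := two_mul_nat_card_alternatingGroup (α := α)
  rw [Nat.card_perm, Nat.card_eq_fintype_card (α := α), hα,
    show Nat.factorial 11 = 39916800 from by decide] at this
  omega

theorem Small.not_dvd_25 {G : Subgroup (Perm α)} (h : Small G) : ¬ 25 ∣ Nat.card G := by
  have := h.not_sylow_dvd (p := 5) (v := 2) (m := 1596672) (by norm_num) (by norm_num)
    (by decide) (by norm_num)
  simpa using this

theorem Small.not_dvd_81 {G : Subgroup (Perm α)} (h : Small G) : ¬ 81 ∣ Nat.card G := by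
  have := h.not_sylow_dvd (p := 3) (v := 4) (m := 492800) (by norm_num) (by norm_num)
    (by decide) (by norm_num)
  simpa using this

theorem Small.not_dvd_7 {G : Subgroup (Perm α)} (h : Small G) : ¬ 7 ∣ Nat.card G := by
  intro hd
  obtain ⟨g, hg, ho⟩ := exists_orderOf_of_dvd (by norm_num) hd
  exact h.support_seven hg ho

/-- the centraliser of an element of order five has order five -/
theorem Even11.card_centralizer_five (h : Even11 H) {y : Perm α} (hy : y ∈ H)
    (ho : orderOf y = 5) :
    Nat.card ↥(H ⊓ Subgroup.centralizer ({y} : Set (Perm α))) = 5 := by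
  set C := H ⊓ Subgroup.centralizer ({y} : Set (Perm α)) with hC
  have hy' : y ∈ C := ⟨hy, Subgroup.mem_centralizer_singleton_iff.2 rfl⟩
  have h5 : 5 ∣ Nat.card C := by
    rw [← ho]
    exact Subgroup.orderOf_dvd_natCard C hy'
  have honly : ∀ q : ℕ, q.Prime → q ∣ Nat.card C → q = 5 := by
    intro q hq hd
    by_contra hq5
    obtain ⟨t, ht, hto⟩ := exists_orderOf_of_dvd hq hd
    have hc : Commute t y := Subgroup.mem_centralizer_singleton_iff.1 ht.2
    obtain ⟨rfl, hs, -⟩ := h.toSmall.commute_five hy ho hq hq5 hto hc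
    rcases support_two_even (h.even ht.1) h.card hto with e | e <;> omega
  have h25 : ¬ 25 ∣ Nat.card C := fun hd =>
    h.toSmall.not_dvd_25 (hd.trans (Subgroup.card_dvd_of_le inf_le_left))
  obtain ⟨m, hm⟩ := h5
  by_contra hne
  have hm1 : m ≠ 1 := fun e => hne (by rw [hm, e])
  obtain ⟨q, hq, hqm⟩ := Nat.exists_prime_and_dvd hm1
  have := honly q hq (hm ▸ Dvd.dvd.mul_left hqm 5)
  subst this
  exact h25 (hm ▸ Nat.mul_dvd_mul_left 5 hqm)

theorem arith_cases (n : ℕ) (hn : n ∣ 362880) (h5 : ¬ 5 ∣ n) (h7 : ¬ 7 ∣ n) (h81 : ¬ 81 ∣ n)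
    (hmod : n % 11 = 1) : n = 1 ∨ n = 12 ∨ n = 144 ∨ n = 1728 := by
  have h1 : n ∣ (2 ^ 7 * 3 ^ 4) * 35 := by norm_num; exact hn
  have hco : Nat.Coprime n 35 := by
    rw [show (35 : ℕ) = 5 * 7 from rfl, Nat.coprime_mul_iff_right]
    exact ⟨((Nat.Prime.coprime_iff_not_dvd (by norm_num)).2 h5).symm,
      ((Nat.Prime.coprime_iff_not_dvd (by norm_num)).2 h7).symm⟩
  obtain ⟨u, v, hu, hv, rfl⟩ := Nat.dvd_mul.1 (hco.dvd_of_dvd_mul_right h1)
  obtain ⟨a, ha, rfl⟩ := (Nat.dvd_prime_pow Nat.prime_two).1 hu
  obtain ⟨b, hb, rfl⟩ := (Nat.dvd_prime_pow Nat.prime_three).1 hv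
  interval_cases a <;> interval_cases b <;> norm_num at * 

/-- The order is 660, 7920, or would be 95040. -/
theorem Even11.order (h : Even11 H) :
    Nat.card H = 660 ∨ Nat.card H = 7920 := by
  haveI := h.trans
  haveI := Fact.mk (show Nat.Prime 11 by norm_num)
  obtain ⟨P⟩ := (inferInstance : Nonempty (Sylow 11 H))
  obtain ⟨k, n, hcard, hN, -, hk, hn, hk1⟩ := exists_counts h.card P
  have h110 := h.two_dvd
  have hkodd : ¬ _root_.Even k := by
    intro heven
    obtain ⟨σ, s, e, -, -, -, -, hs⟩ := exists_coord_neg h.card (by norm_num) P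
      (by rw [hN]; exact heven.mul_left 11)
    have hse : (s : Perm α) = e.permCongr (Equiv.neg (ZMod 11)) := Equiv.ext fun x => by
      obtain ⟨j, rfl⟩ := e.surjective x
      simpa [Subgroup.smul_def] using hs j
    have h1 : sign (s : Perm α) = 1 := mem_alternatingGroup.1 (h.even s.2)
    rw [hse, sign_permCongr, neg_sign] at h1
    exact absurd h1 (by decide)
  have hk5 : k = 5 := by
    have hkle := Nat.le_of_dvd (by norm_num) hk
    have hk13 : k = 1 ∨ k = 5 := by
      have : ∀ k ≤ 10, k ∣ 10 → ¬ _root_.Even k → k = 1 ∨ k = 5 := by decide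
      exact this k hkle hk hkodd
    rcases hk13 with e | e
    · exfalso
      rw [hcard, hk1 e, e] at h110
      norm_num at h110
    · exact e
  subst hk5
  have hdvd : Nat.card H ∣ 19958400 := card_alt h.card ▸ Subgroup.card_dvd_of_le h.even
  rw [hcard] at hdvd
  have hn' : n ∣ 362880 := Nat.dvd_of_mul_dvd_mul_left (k := 55) (by norm_num) (by simpa using hdvd)
  have h5 : ¬ 5 ∣ n := fun hd => h.toSmall.not_dvd_25 <| by
    rw [hcard]
    obtain ⟨c, rfl⟩ := hd
    exact ⟨11 * c, by ring⟩
  have h7 : ¬ 7 ∣ n := fun hd => h.toSmall.not_dvd_7 (hcard ▸ Dvd.dvd.mul_left hd _)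
  have h81 : ¬ 81 ∣ n := fun hd => h.toSmall.not_dvd_81 (hcard ▸ Dvd.dvd.mul_left hd _)
  rcases arith_cases n hn' h5 h7 h81 hn with rfl | rfl | rfl | rfl
  · rw [hcard] at h110; norm_num at h110
  · left; rw [hcard]
  · right; rw [hcard]
  · exfalso
    haveI := Fact.mk (show Nat.Prime 5 by norm_num)
    obtain ⟨Q⟩ := (inferInstance : Nonempty (Sylow 5 H))
    have hQ : Nat.card (Q : Subgroup H) = 5 := by
      rw [Q.card_eq_multiplicity, hcard]
      have h' : (11 * 5 * 1728).factorization 5 = 1 := by
        rw [show 11 * 5 * 1728 = 5 * 19008 by norm_num, Nat.factorization_mul (by norm_num) (by norm_num),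
          Finsupp.add_apply, Nat.Prime.factorization_self (by norm_num),
          Nat.factorization_eq_zero_of_not_dvd (by norm_num)]
      rw [h', pow_one]
    obtain ⟨⟨y, hyQ⟩, hy⟩ :=
      exists_prime_orderOf_dvd_card' (G := (Q : Subgroup H)) 5 (dvd_of_eq hQ.symm)
    rw [Subgroup.orderOf_mk] at hy
    have hy0 : orderOf (y : Perm α) = 5 := by rw [Subgroup.orderOf_coe, hy]
    have hz : Subgroup.zpowers y = (Q : Subgroup H) :=
      Subgroup.eq_of_le_of_card_ge (Subgroup.zpowers_le.2 hyQ)
        (by rw [Nat.card_zpowers, hy, hQ])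
    have hC : Nat.card (Subgroup.centralizer ((Q : Subgroup H) : Set H)) = 5 := by
      rw [← hz, Subgroup.zpowers_eq_closure, Subgroup.centralizer_closure,
        ← h.card_centralizer_five y.2 hy0]
      exact Nat.card_congr
        { toFun := fun g => ⟨(g.1 : Perm α), g.1.2, Subgroup.mem_centralizer_singleton_iff.2
            (congrArg Subtype.val (Subgroup.mem_centralizer_singleton_iff.1 g.2))⟩
          invFun := fun g => ⟨⟨g.1, g.2.1⟩, Subgroup.mem_centralizer_singleton_iff.2
            (Subtype.ext (Subgroup.mem_centralizer_singleton_iff.1 g.2.2))⟩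
          left_inv := fun _ => rfl
          right_inv := fun _ => rfl }
    set N := Subgroup.normalizer ((Q : Subgroup H) : Set H) with hNdef
    have hcyc : IsCyclic (Q : Subgroup H) := isCyclic_of_prime_card hQ
    have hNdvd : Nat.card N ∣ 20 := by
      let f := (Q : Subgroup H).normalizerMonoidHom
      have hk : Nat.card f.ker ∣ 5 := by
        rw [Subgroup.normalizerMonoidHom_ker, Nat.card_congr (Subgroup.subgroupOfEquivOfLe ?_).toEquiv, hC]
        exact Subgroup.centralizer_le_normalizer _
      have hr : Nat.card f.range ∣ 4 := by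
        refine (Subgroup.card_subgroup_dvd_card f.range).trans ?_
        rw [IsCyclic.card_mulAut, hQ, Nat.totient_prime (by norm_num)]
      rw [← f.ker.card_mul_index, Subgroup.index_ker]
      exact (Nat.mul_dvd_mul hk hr)
    have h5N : 5 ∣ Nat.card N := by
      have : (Q : Subgroup H) ≤ N := Subgroup.le_normalizer
      have h' := Subgroup.card_dvd_of_le this
      rwa [hQ] at h'
    have hmod := card_sylow_modEq_one 5 H
    rw [Q.card_eq_index_normalizer, Nat.ModEq] at hmod
    have hmul := N.card_mul_index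
    rw [hcard] at hmul
    have hle := Nat.le_of_dvd (by norm_num) hNdvd
    generalize Nat.card N = c at hNdvd h5N hle hmul
    generalize N.index = d at hmod hmul
    interval_cases c <;> omega

end CfsgLib.Perm.Eleven
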