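import Cfsg.Agent.Lib.Perm.DegreeEleven.Orders

/-!
Stabilisers of points in transitive even groups of degree eleven.
-/

set_option autoImplicit false
set_option linter.style.haveILetI false
set_option linter.unusedSectionVars false

namespace CfsgLib.Perm.Eleven

open MulAction Equiv Equiv.Perm

variable {α : Type*} [Fintype α] [DecidableEq α]

/-- the two-point stabiliser -/
abbrev pairSt (H : Subgroup (Perm α)) (a b : α) : Subgroup (Perm α) :=
  H ⊓ stabilizer (Perm α) a ⊓ stabilizer (Perm α) b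

/-- the three-point stabiliser -/
abbrev triSt (H : Subgroup (Perm α)) (a b c : α) : Subgroup (Perm α) :=
  pairSt H a b ⊓ stabilizer (Perm α) c

variable {H : Subgroup (Perm α)}

theorem mem_pairSt {g : Perm α} {a b : α} : g ∈ pairSt H a b ↔ g ∈ H ∧ g a = a ∧ g b = b :=
  and_assoc

theorem mem_triSt {g : Perm α} {a b c : α} :
    g ∈ triSt H a b c ↔ g ∈ H ∧ g a = a ∧ g b = b ∧ g c = c := by
  show (_ ∧ _) ∧ _ ↔ _
  constructor
  · rintro ⟨⟨⟨h1, h2⟩, h3⟩, h4⟩; exact ⟨h1, h2, h3, h4⟩
  · rintro ⟨h1, h2, h3, h4⟩; exact ⟨⟨⟨h1, h2⟩, h3⟩, h4⟩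

theorem orbit_maps {K : Subgroup (Perm α)} {c : α} (v : Perm α) (hv : v ∈ K) {x : α}
    (hx : x ∈ orbit K c) : v x ∈ orbit K c := by
  obtain ⟨g, rfl⟩ := hx
  exact ⟨⟨v, hv⟩ * g, rfl⟩

/-- orbit size bounded by any containing finset -/
theorem orbit_card_le {K : Subgroup (Perm α)} {c : α} (s : Finset α)
    (hs : ∀ g ∈ K, g c ∈ s) : Nat.card (orbit K c) ≤ s.card := by
  rw [← Nat.card_eq_finsetCard]
  refine Nat.card_le_card_of_injective
    (fun x : orbit K c => (⟨(x : α), ?_⟩ : ↥s)) ?_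
  · obtain ⟨g, hg⟩ := x.2
    rw [← hg]
    exact hs g g.2
  · intro x y hxy
    exact Subtype.ext (congrArg Subtype.val hxy :)

theorem ne_of_ne {g : Perm α} {a x : α} (ha : g a = a) (hx : x ≠ a) : g x ≠ a :=
  fun e => hx (g.injective (e.trans ha.symm))

theorem orbit_pair_le (hα : Fintype.card α = 11) {a b c : α} (hab : a ≠ b) (hca : c ≠ a)
    (hcb : c ≠ b) : Nat.card (orbit (pairSt H a b) c) ≤ 9 := by
  refine (orbit_card_le (({a, b} : Finset α)ᶜ) fun g hg => ?_).trans ?_
  · obtain ⟨-, ha, hb⟩ := mem_pairSt.1 hg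
    simp only [Finset.mem_compl, Finset.mem_insert, Finset.mem_singleton, not_or]
    exact ⟨ne_of_ne ha hca, ne_of_ne hb hcb⟩
  · rw [Finset.card_compl, Finset.card_pair hab, hα]

theorem Even11.map_two (h : Even11 H) {a b c d : α} (hab : a ≠ b) (hcd : c ≠ d) :
    ∃ g ∈ H, g a = c ∧ g b = d := by
  have := h.two_trans
  rw [is_two_pretransitive_iff] at this
  obtain ⟨⟨g, hg⟩, h1, h2⟩ := this hab hcd
  exact ⟨g, hg, h1, h2⟩

theorem Even11.card_point (h : Even11 H) (a : α) :
    11 * Nat.card ↥(H ⊓ stabilizer (Perm α) a) = Nat.card H := by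
  haveI := h.trans
  have e : Nat.card (orbit H a) = 11 := by
    rw [orbit_eq_univ, Nat.card_coe_set_eq, Set.ncard_univ, Nat.card_eq_fintype_card, h.card]
  have := orbit_mul_card H a
  rwa [e] at this

theorem Even11.card_pairSt (h : Even11 H) {a b : α} (hab : a ≠ b) :
    110 * Nat.card ↥(pairSt H a b) = Nat.card H := by
  have horb : orbit ↥(H ⊓ stabilizer (Perm α) a) b = {x | x ≠ a} := by
    ext x
    constructor
    · rintro ⟨⟨g, hg⟩, rfl⟩
      exact ne_of_ne hg.2 hab.symm
    · intro hx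
      obtain ⟨g, hg, ga, gb⟩ := h.map_two hab (Ne.symm hx : a ≠ x)
      exact ⟨⟨g, hg, ga⟩, gb⟩
  have e : Nat.card (orbit ↥(H ⊓ stabilizer (Perm α) a) b) = 10 := by
    rw [horb, Nat.card_coe_set_eq]
    have : ({x : α | x ≠ a} : Set α) = ({a} : Set α)ᶜ := rfl
    rw [this, Set.ncard_compl, Set.ncard_singleton, Nat.card_eq_fintype_card, h.card]
  have h1 := orbit_mul_card (H ⊓ stabilizer (Perm α) a) b
  rw [e] at h1
  rw [← h.card_point a, ← h1]
  ring

/-- an element with a small support is trivial -/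
theorem Small.eq_one_of_support (h : Small H) {g : Perm α} (hg : g ∈ H)
    (hs : g.support.card ≤ 3) : g = 1 := by
  by_contra h1
  obtain ⟨p, hp, hd⟩ := Nat.exists_prime_and_dvd (n := orderOf g)
    (by rwa [Ne, orderOf_eq_one_iff])
  have hv : orderOf (g ^ (orderOf g / p)) = p :=
    orderOf_pow_orderOf_div (orderOf_pos g).ne' hd
  have hle : (g ^ (orderOf g / p)).support.card ≤ 3 :=
    (Finset.card_le_card (support_pow_le g _)).trans hs
  obtain ⟨m, -, hm⟩ := cycleType_of_prime hp hv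
  have hp3 : p ≤ 3 := by
    have : p ≤ (m + 1) * p := Nat.le_mul_of_pos_left p (by omega)
    omega
  have := hp.two_le
  interval_cases p
  · rcases h.support_two (pow_mem hg _) hv with e | e | e | e <;> omega
  · rcases h.support_three (pow_mem hg _) hv with e | e <;> omega

/-- no subgroup of order nine fixes three points -/
theorem Small.no_nine (h : Small H) {Q : Subgroup (Perm α)} (hQH : Q ≤ H) (hQ : Nat.card Q = 9)
    {x y z : α} (hxy : x ≠ y) (hxz : x ≠ z) (hyz : y ≠ z)
    (hf : ∀ g ∈ Q, g x = x ∧ g y = y ∧ g z = z) : False := by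
  classical
  haveI := Fact.mk Nat.prime_three
  have hQc : ∀ g₁ g₂ : Q, g₁ * g₂ = g₂ * g₁ := fun g₁ g₂ =>
    (IsPGroup.isMulCommutative_of_card_eq_prime_sq (p := 3) (by rw [hQ]; rfl)).is_comm.comm g₁ g₂
  obtain ⟨⟨q, hq⟩, hq1⟩ := exists_prime_orderOf_dvd_card' (G := Q) 3 (by rw [hQ]; norm_num)
  rw [Subgroup.orderOf_mk] at hq1
  obtain ⟨w, hw⟩ : ∃ w, q w ≠ w := by
    by_contra! hc
    have e : q = 1 := Equiv.ext fun w => by simpa using hc w
    rw [e, orderOf_one] at hq1
    norm_num at hq1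
  have hne : Nat.card (orbit Q w) ≠ 1 := by
    intro e
    have := (Nat.card_eq_one_iff_unique.1 e).1
    exact hw (congrArg Subtype.val
      (Subsingleton.elim (⟨q w, ⟨⟨q, hq⟩, rfl⟩⟩ : orbit Q w) ⟨w, mem_orbit_self w⟩))
  have hwx : w ≠ x := fun e => hw (e ▸ (hf q hq).1)
  have hwy : w ≠ y := fun e => hw (e ▸ (hf q hq).2.1)
  have hwz : w ≠ z := fun e => hw (e ▸ (hf q hq).2.2)
  have hxyz : ({x, y, z} : Finset α).card = 3 := Finset.card_eq_three.2 ⟨x, y, z, hxy, hxz, hyz, rfl⟩
  have h8 : Nat.card (orbit Q w) ≤ 8 := by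
    refine (orbit_card_le (({x, y, z} : Finset α)ᶜ) fun g hg => ?_).trans ?_
    · obtain ⟨h1, h2, h3⟩ := hf g hg
      simp only [Finset.mem_compl, Finset.mem_insert, Finset.mem_singleton, not_or]
      exact ⟨ne_of_ne h1 hwx, ne_of_ne h2 hwy, ne_of_ne h3 hwz⟩
    · rw [Finset.card_compl, hxyz, h.card]
  have hmul := orbit_mul_card Q w
  rw [hQ] at hmul
  have h3 : Nat.card (orbit Q w) = 3 := by
    have hd : Nat.card (orbit Q w) ∣ 9 := ⟨_, hmul.symm⟩
    generalize Nat.card (orbit Q w) = o at hne h8 hd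
    interval_cases o <;> omega
  obtain ⟨v, hv, hvo⟩ := exists_orderOf_of_dvd (K := Q ⊓ stabilizer (Perm α) w) Nat.prime_three
    (by rw [h3] at hmul; omega)
  -- `v` fixes the whole orbit
  let s : Finset α := (orbit Q w).toFinset ∪ {x, y, z}
  have hs : ∀ u ∈ s, v u = u := by
    intro u hu
    rcases Finset.mem_union.1 hu with hu | hu
    · obtain ⟨g, rfl⟩ := Set.mem_toFinset.1 hu
      show v ((g : Perm α) w) = (g : Perm α) w
      rw [← Perm.mul_apply, show v * (g : Perm α) = g * v from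
        congrArg Subtype.val (hQc ⟨v, hv.1⟩ g), Perm.mul_apply, mem_stab.1 hv.2]
    · obtain ⟨h1, h2, h3⟩ := hf v hv.1
      simp only [Finset.mem_insert, Finset.mem_singleton] at hu
      rcases hu with rfl | rfl | rfl <;> assumption
  have hcard : s.card = 6 := by
    rw [Finset.card_union_of_disjoint, hxyz, Set.toFinset_card, ← Nat.card_eq_fintype_card, h3]
    rw [Finset.disjoint_left]
    intro u hu hu'
    obtain ⟨g, rfl⟩ := Set.mem_toFinset.1 hu
    obtain ⟨h1, h2, h3⟩ := hf g g.2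
    simp only [Finset.mem_insert, Finset.mem_singleton] at hu'
    rcases hu' with e | e | e
    · exact ne_of_ne h1 hwx e
    · exact ne_of_ne h2 hwy e
    · exact ne_of_ne h3 hwz e
  have := support_le h.card s hs
  rcases h.support_three (hQH hv.1) hvo with e | e <;> omega

/-- In order 660 an element of order three fixes exactly two points. -/
theorem Even11.three_660 (h : Even11 H) (hc : Nat.card H = 660) {u : Perm α} (hu : u ∈ H)
    (ho : orderOf u = 3) : u.support.card = 9 := by
  classical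
  rcases h.toSmall.support_three hu ho with hs | hs
  swap
  · exact hs
  exfalso
  haveI := Fact.mk Nat.prime_three
  set T := Subgroup.zpowers u with hT
  have hTc : Nat.card T = 3 := by rw [hT, Nat.card_zpowers, ho]
  set N := H ⊓ Subgroup.normalizer (T : Set (Perm α)) with hN
  have hF : u.supportᶜ.card = 5 := by have := card_fixed u; rw [h.card] at this; omega
  obtain ⟨c, hcm⟩ := Finset.card_pos.1 (by rw [hF]; norm_num : 0 < u.supportᶜ.card)
  have hcu : u c = c := by simpa using hcm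
  -- the normaliser is transitive on the fixed points
  have htrans : ∀ d, u d = d → d ∈ orbit N c := by
    intro d hd
    haveI := h.trans
    obtain ⟨⟨g, hg⟩, hgc⟩ := MulAction.exists_smul_eq H c d
    have hgc' : g c = d := hgc
    set K := H ⊓ stabilizer (Perm α) d with hK
    have hKc : Nat.card K = 60 := by
      have : 11 * Nat.card K = Nat.card H := h.card_point d
      omega
    have hfac : (Nat.card K).factorization 3 = 1 := by
      rw [hKc, show 60 = 3 * 20 by norm_num, Nat.factorization_mul (by norm_num) (by norm_num),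
        Finsupp.add_apply, Nat.Prime.factorization_self Nat.prime_three,
        Nat.factorization_eq_zero_of_not_dvd (by norm_num)]
    have hu2 : g * u * g⁻¹ ∈ K := Subgroup.mem_inf.2 ⟨H.mul_mem (H.mul_mem hg hu) (H.inv_mem hg), by
      show (g * u * g⁻¹) d = d
      rw [← hgc']; simp [hcu]⟩
    let u1 : K := ⟨u, hu, hd⟩
    let u2 : K := ⟨g * u * g⁻¹, hu2⟩
    have ho1 : orderOf u1 = 3 := by rw [← Subgroup.orderOf_coe]; exact ho
    have ho2 : orderOf u2 = 3 := by
      rw [← Subgroup.orderOf_coe]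
      show orderOf (MulAut.conj g u) = 3
      rw [MulEquiv.orderOf_eq, ho]
    let S1 : Sylow 3 K := Sylow.ofCard (Subgroup.zpowers u1) (by rw [Nat.card_zpowers, ho1, hfac, pow_one])
    let S2 : Sylow 3 K := Sylow.ofCard (Subgroup.zpowers u2) (by rw [Nat.card_zpowers, ho2, hfac, pow_one])
    obtain ⟨k, hk⟩ := MulAction.exists_smul_eq K S2 S1
    have hk' : k * u2 * k⁻¹ ∈ Subgroup.zpowers u1 := by
      have : k * u2 * k⁻¹ ∈ (k • S2 : Sylow 3 K) := ⟨u2, Subgroup.mem_zpowers u2, rfl⟩
      rw [hk] at this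
      exact this
    obtain ⟨i, hi⟩ := Subgroup.mem_zpowers_iff.1 hk'
    have hi' : (u ^ i : Perm α) = (k * g : Perm α) * u * (k * g : Perm α)⁻¹ := by
      have := congrArg Subtype.val hi
      simp only [Subgroup.coe_zpow, Subgroup.coe_mul, Subgroup.coe_inv, u1, u2] at this
      rw [this]; group
    have hmap : T.map (MulAut.conj ((k : Perm α) * g)).toMonoidHom = T := by
      refine Subgroup.eq_of_le_of_card_ge ?_ (le_of_eq (Subgroup.card_map_of_injective
        (MulAut.conj ((k : Perm α) * g)).injective).symm)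
      rw [hT, MonoidHom.map_zpowers, Subgroup.zpowers_le]
      exact ⟨i, hi'⟩
    refine ⟨⟨(k : Perm α) * g, Subgroup.mem_inf.2 ⟨H.mul_mem k.2.1 hg, ?_⟩⟩, ?_⟩
    · rw [Subgroup.mem_normalizer_iff]
      intro n
      conv_rhs => rw [← hmap]
      simp [Subgroup.mem_map_equiv, mul_assoc]
    · show (k : Perm α) (g c) = d
      rw [hgc']
      exact k.2.2
  have hle : ∀ g ∈ N, g c ∈ u.supportᶜ := by
    intro g hg
    have hinv : g⁻¹ * u * g ∈ T := by
      have := (Subgroup.mem_normalizer_iff.1 (inv_mem hg.2) u).1 (Subgroup.mem_zpowers u)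
      simpa using this
    obtain ⟨i, hi⟩ := Subgroup.mem_zpowers_iff.1 hinv
    have : (g⁻¹ * u * g) c = c := by
      rw [← hi]; exact zpow_apply_eq_self_of_apply_eq_self hcu i
    rw [Finset.mem_compl, mem_support, not_not]
    rwa [Perm.mul_apply, Perm.mul_apply, Perm.inv_eq_iff_eq] at this
  have horb : orbit N c = ↑(u.supportᶜ) := by
    refine Set.Subset.antisymm ?_ fun d hd => htrans d (by simpa using hd)
    rintro _ ⟨g, rfl⟩
    exact hle g g.2
  have h5 : 5 ∣ Nat.card N := by
    rw [← orbit_mul_card N c, horb, Nat.card_coe_set_eq, Set.ncard_coe_finset, hF]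
    exact dvd_mul_right _ _
  obtain ⟨y, hy, hyo⟩ := exists_orderOf_of_dvd (by norm_num) h5
  have hconj : y * u * y⁻¹ ∈ T :=
    (Subgroup.mem_normalizer_iff.1 hy.2 u).1 (Subgroup.mem_zpowers u)
  obtain ⟨i, hi⟩ := mem_powers_iff_mem_zpowers.2 hconj
  have hcomm : Commute u y := by
    have hyi : y * u * y⁻¹ = u ^ (i % 3) := by rw [← ho, pow_mod_orderOf]; exact hi.symm
    have hlt : i % 3 < 3 := Nat.mod_lt _ (by norm_num)
    have hu1 : u ≠ 1 := fun e => by rw [e, orderOf_one] at ho; norm_num at ho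
    interval_cases hj : i % 3
    · exact absurd (mul_inv_eq_one.1 (by simpa using hyi) : y * u = y) (by simpa using hu1)
    · exact ((mul_inv_eq_iff_eq_mul.1 (by simpa using hyi)) : y * u = u * y).symm
    · have h4 : y ^ 2 * u * (y ^ 2)⁻¹ = u := by
        calc y ^ 2 * u * (y ^ 2)⁻¹ = y * (y * u * y⁻¹) * y⁻¹ := by rw [sq, mul_inv_rev]; simp only [mul_assoc]
          _ = y * u ^ 2 * y⁻¹ := by rw [hyi]
          _ = (y * u * y⁻¹) ^ 2 := conj_pow.symm
          _ = u := by
            rw [hyi, ← pow_mul, ← pow_mod_orderOf, ho]; simp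
      have hc2 : Commute u (y ^ 2) := ((mul_inv_eq_iff_eq_mul.1 h4) : _ = _).symm
      have : y = (y ^ 2) ^ 3 := by
        rw [← pow_mul, ← pow_mod_orderOf, hyo]; simp
      rw [this]
      exact hc2.pow_right 3
  exact absurd (h.toSmall.commute_five hy.1 hyo Nat.prime_three (by norm_num) ho hcomm).1
    (by norm_num)

end CfsgLib.Perm.Eleven
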