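import Cfsg.Agent.Lib.Perm.DegreeEleven.Three

/-!
The order 7920 group is sharply four-transitive.
-/

set_option autoImplicit false
set_option linter.style.haveILetI false
set_option linter.unusedSectionVars false

namespace CfsgLib.Perm.Eleven

open MulAction Equiv Equiv.Perm

variable {α : Type*} [Fintype α] [DecidableEq α] {H : Subgroup (Perm α)}
variable (h : Even11 H) (hc : Nat.card H = 7920)

include h hc in
theorem move_three {a b c d : α} (hab : a ≠ b) (hca : c ≠ a) (hcb : c ≠ b) (hda : d ≠ a)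
    (hdb : d ≠ b) : ∃ g ∈ H, g a = a ∧ g b = b ∧ g c = d := by
  classical
  have h3 : ¬ 3 ∣ Nat.card ↥(triSt H a b c) := by
    intro hd
    obtain ⟨u, hu, ho⟩ := exists_orderOf_of_dvd Nat.prime_three hd
    obtain ⟨huH, h1, h2, h3⟩ := mem_triSt.1 hu
    have := support_le h.card (g := u) {a, b, c} fun y hy => by
      simp only [Finset.mem_insert, Finset.mem_singleton] at hy
      rcases hy with rfl | rfl | rfl <;> assumption
    rw [Finset.card_eq_three.2 ⟨a, b, c, hab, hca.symm, hcb.symm, rfl⟩,
      three_7920 h hc huH ho] at this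
    omega
  have h9 : Nat.card (orbit (pairSt H a b) c) = 9 := by
    rcases orbit_cases h hc hab hca hcb with ⟨-, e⟩ | ⟨-, e⟩ | ⟨e, -⟩
    · omega
    · omega
    · exact e
  have hsub : (orbit (pairSt H a b) c).toFinset ⊆ ({a, b} : Finset α)ᶜ := by
    intro x hx
    obtain ⟨g, rfl⟩ := Set.mem_toFinset.1 hx
    obtain ⟨-, ga, gb⟩ := mem_pairSt.1 g.2
    simp only [Finset.mem_compl, Finset.mem_insert, Finset.mem_singleton, not_or]
    exact ⟨ne_of_ne ga hca, ne_of_ne gb hcb⟩
  have heq := Finset.eq_of_subset_of_card_le hsub (by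
    rw [Finset.card_compl, Finset.card_pair hab, h.card, Set.toFinset_card,
      ← Nat.card_eq_fintype_card, h9])
  have hd : d ∈ orbit (pairSt H a b) c := by
    rw [← Set.mem_toFinset, heq]
    simp [hda, hdb]
  obtain ⟨g, rfl⟩ := hd
  obtain ⟨gH, ga, gb⟩ := mem_pairSt.1 g.2
  exact ⟨g, gH, ga, gb, rfl⟩

include h hc in
theorem no_double {g : Perm α} (hg : g ∈ H) (ho : orderOf g = 2) : g.support.card ≠ 4 := by
  classical
  intro hs
  have hgg : ∀ x, g (g x) = x := fun x => by
    have : (g ^ 2) x = x := by rw [← ho, pow_orderOf_eq_one]; rfl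
    simpa [pow_succ, Perm.mul_apply] using this
  obtain ⟨a, ha⟩ := Finset.card_pos.1 (by rw [hs]; norm_num : 0 < g.support.card)
  set b := g a with hb
  have hba : b ≠ a := mem_support.1 ha
  have hbm : b ∈ g.support := apply_mem_support.2 ha
  obtain ⟨c, hcm⟩ := Finset.card_pos.1 (by
    rw [Finset.card_erase_of_mem (Finset.mem_erase.2 ⟨hba, hbm⟩), Finset.card_erase_of_mem ha, hs]
    norm_num : 0 < ((g.support.erase a).erase b).card)
  obtain ⟨hcb, hcm'⟩ := Finset.mem_erase.1 hcm
  obtain ⟨hca, hcs⟩ := Finset.mem_erase.1 hcm'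
  set d := g c with hd
  have hdc : d ≠ c := mem_support.1 hcs
  have hda : d ≠ a := fun e => hcb (by rw [hb, ← e, hd, hgg])
  have hdb : d ≠ b := fun e => hca (g.injective e)
  have hgb : g b = a := hgg a
  have hgd : g d = c := hgg c
  have hquad : ({a, b, c, d} : Finset α) = g.support := by
    refine Finset.eq_of_subset_of_card_le (fun x hx => ?_) ?_
    · simp only [Finset.mem_insert, Finset.mem_singleton] at hx
      rcases hx with rfl | rfl | rfl | rfl
      exacts [ha, hbm, hcs, apply_mem_support.2 hcs]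
    · rw [hs, Finset.card_insert_of_notMem (by simp [hba.symm, hca.symm, hda.symm]),
        Finset.card_insert_of_notMem (by simp [hcb.symm, hdb.symm]), Finset.card_pair hdc.symm]
  have hfix : ∀ x, x ≠ a → x ≠ b → x ≠ c → x ≠ d → g x = x := fun x h1 h2 h3 h4 => by
    have : x ∉ g.support := by rw [← hquad]; simp [h1, h2, h3, h4]
    simpa using this
  obtain ⟨e, he⟩ := Finset.card_pos.1 (by rw [Finset.card_compl, hs, h.card]; norm_num :
    0 < g.supportᶜ.card)
  have hge : g e = e := by simpa using he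
  have hea : e ≠ a := fun q => hba (by rw [hb, ← q, hge])
  have heb : e ≠ b := fun q => hba (by
    have := hgb; rw [← q, hge] at this; rw [← q, this])
  have hec : e ≠ c := fun q => hdc (by rw [hd, ← q, hge])
  have hed : e ≠ d := fun q => hdc (by
    have := hgd; rw [← q, hge] at this; rw [← q, this])
  obtain ⟨k, hk, ka, kc, kb⟩ := move_three h hc hca.symm hba hcb.symm hea hec
  set y := k d with hy
  have hya : y ≠ a := ne_of_ne ka hda
  have hyc : y ≠ c := ne_of_ne kc hdc
  have hye : y ≠ e := fun q => hdb (k.injective (q.trans kb.symm))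
  set t := k * g * k⁻¹ with ht
  have htv : ∀ x, t (k x) = k (g x) := fun x => by simp [ht, Perm.mul_apply]
  have ta : t a = e := by rw [← ka, htv, ← hb, kb]
  have te : t e = a := by rw [← kb, htv, hgb, ka]
  have tc : t c = y := by rw [← kc, htv]
  have ty : t y = c := by rw [hy, htv, hgd, kc]
  have tfix : ∀ x, x ≠ a → x ≠ e → x ≠ c → x ≠ y → t x = x := fun x h1 h2 h3 h4 => by
    obtain ⟨z, rfl⟩ := k.surjective x
    rw [htv, hfix z (fun q => h1 (q ▸ ka)) (fun q => h2 (q ▸ kb)) (fun q => h3 (q ▸ kc))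
      (fun q => h4 (q ▸ rfl))]
  set P := g * t with hP
  have hPH : P ∈ H := H.mul_mem hg (H.mul_mem (H.mul_mem hk hg) (H.inv_mem hk))
  have hPa : P a = e := by rw [hP, Perm.mul_apply, ta, hge]
  have hPe : P e = b := by rw [hP, Perm.mul_apply, te]
  have hP1 : P ≠ 1 := fun q => hea (by rw [← hPa, q]; rfl)
  have hPx : ∀ x, x ≠ a → x ≠ b → x ≠ c → x ≠ d → x ≠ e → x ≠ y → P x = x :=
    fun x h1 h2 h3 h4 h5 h6 => by
      rw [hP, Perm.mul_apply, tfix x h1 h5 h3 h6, hfix x h1 h2 h3 h4]
  rcases eq_or_ne y d with hyd | hyd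
  · -- a three-cycle
    have hsub : P.support ⊆ {a, b, e} := by
      intro x hx
      rw [mem_support] at hx
      simp only [Finset.mem_insert, Finset.mem_singleton]
      by_contra! hn
      refine hx ?_
      by_cases hxc : x = c
      · rw [hxc, hP, Perm.mul_apply, tc, hyd, hgd]
      by_cases hxd : x = d
      · rw [hxd, ← hyd, hP, Perm.mul_apply, ty, ← hd, hyd]
      exact hPx x hn.1 hn.2.1 hxc hxd hn.2.2 (hyd ▸ hxd)
    exact hP1 (h.toSmall.eq_one_of_support hPH
      ((Finset.card_le_card hsub).trans Finset.card_le_three))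
  rcases eq_or_ne y b with hyb | hyb
  · -- a five-cycle
    have hPb : P b = d := by rw [← hyb, hP, Perm.mul_apply, ty]
    have hPd : P d = c := by rw [hP, Perm.mul_apply, tfix d hda hed.symm hdc (Ne.symm hyd), hgd]
    have hPc : P c = a := by rw [hP, Perm.mul_apply, tc, hyb, hgb]
    have hP5 : P ^ 5 = 1 := Equiv.ext fun x => by
      by_cases h1 : x = a
      · simp [h1, pow_succ, Perm.mul_apply, hPa, hPe, hPb, hPd, hPc]
      by_cases h2 : x = e
      · simp [h2, pow_succ, Perm.mul_apply, hPa, hPe, hPb, hPd, hPc]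
      by_cases h3 : x = b
      · simp [h3, pow_succ, Perm.mul_apply, hPa, hPe, hPb, hPd, hPc]
      by_cases h4 : x = d
      · simp [h4, pow_succ, Perm.mul_apply, hPa, hPe, hPb, hPd, hPc]
      by_cases h5 : x = c
      · simp [h5, pow_succ, Perm.mul_apply, hPa, hPe, hPb, hPd, hPc]
      exact pow_apply_eq_self_of_apply_eq_self (hPx x h1 h3 h5 h4 h2 (hyb ▸ h3)) 5
    haveI := Fact.mk (show Nat.Prime 5 by norm_num)
    have := h.toSmall.support_five hPH (orderOf_eq_prime hP5 hP1)
    have hsub : P.support ⊆ {a, b, c, d, e} := by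
      intro x hx
      rw [mem_support] at hx
      simp only [Finset.mem_insert, Finset.mem_singleton]
      by_contra! hn
      exact hx (hPx x hn.1 hn.2.1 hn.2.2.1 hn.2.2.2.1 hn.2.2.2.2 (hyb ▸ hn.2.1))
    have := (Finset.card_le_card hsub).trans Finset.card_le_five
    omega
  -- two three-cycles
  have hPb : P b = a := by
    rw [hP, Perm.mul_apply, tfix b hba heb.symm hcb.symm (Ne.symm hyb), hgb]
  have hPc : P c = y := by rw [hP, Perm.mul_apply, tc, hfix y hya hyb hyc hyd]
  have hPy : P y = d := by rw [hP, Perm.mul_apply, ty]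
  have hPd : P d = c := by rw [hP, Perm.mul_apply, tfix d hda hed.symm hdc (Ne.symm hyd), hgd]
  have hP3 : P ^ 3 = 1 := Equiv.ext fun x => by
    by_cases h1 : x = a
    · simp [h1, pow_succ, Perm.mul_apply, hPa, hPe, hPb]
    by_cases h2 : x = e
    · simp [h2, pow_succ, Perm.mul_apply, hPa, hPe, hPb]
    by_cases h3 : x = b
    · simp [h3, pow_succ, Perm.mul_apply, hPa, hPe, hPb]
    by_cases h4 : x = c
    · simp [h4, pow_succ, Perm.mul_apply, hPc, hPy, hPd]
    by_cases h5 : x = y
    · simp [h5, pow_succ, Perm.mul_apply, hPc, hPy, hPd]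
    by_cases h6 : x = d
    · simp [h6, pow_succ, Perm.mul_apply, hPc, hPy, hPd]
    exact pow_apply_eq_self_of_apply_eq_self (hPx x h1 h3 h4 h6 h2 h5) 3
  haveI := Fact.mk Nat.prime_three
  have := three_7920 h hc hPH (orderOf_eq_prime hP3 hP1)
  have hsub : P.support ⊆ {a, b, c, d, e, y} := by
    intro x hx
    rw [mem_support] at hx
    simp only [Finset.mem_insert, Finset.mem_singleton]
    by_contra! hn
    exact hx (hPx x hn.1 hn.2.1 hn.2.2.1 hn.2.2.2.1 hn.2.2.2.2.1 hn.2.2.2.2.2)
  have := (Finset.card_le_card hsub).trans Finset.card_le_six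
  omega

include h hc in
/-- only the identity fixes four points -/
theorem eq_one_of_fix_four {g : Perm α} (hg : g ∈ H) (s : Finset α) (hs4 : 4 ≤ s.card)
    (hs : ∀ x ∈ s, g x = x) : g = 1 := by
  by_contra h1
  obtain ⟨p, hp, hd⟩ := Nat.exists_prime_and_dvd (n := orderOf g)
    (by rwa [Ne, orderOf_eq_one_iff])
  set v := g ^ (orderOf g / p) with hvdef
  have hvH : v ∈ H := pow_mem hg _
  have hv : orderOf v = p := orderOf_pow_orderOf_div (orderOf_pos g).ne' hd
  have hle := support_le h.card (g := v) s fun x hx => pow_apply_eq_self_of_apply_eq_self (hs x hx) _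
  obtain ⟨m, -, hm⟩ := cycleType_of_prime hp hv
  have hp7 : p ≤ 7 := by
    have : p ≤ (m + 1) * p := Nat.le_mul_of_pos_left p (by omega)
    omega
  have := hp.two_le
  interval_cases p
  · rcases support_two_even (h.even hvH) h.card hv with e | e
    · exact no_double h hc hvH hv e
    · omega
  · have := three_7920 h hc hvH hv; omega
  · norm_num at hp
  · have := h.toSmall.support_five hvH hv; omega
  · norm_num at hp
  · exact h.toSmall.support_seven hvH hv

include h hc in
theorem stabilizer_four (x : Fin 4 ↪ α) : stabilizer H x = ⊥ := by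
  rw [eq_bot_iff]
  rintro ⟨g, hg⟩ hx
  rw [Subgroup.mem_bot]
  refine Subtype.ext (eq_one_of_fix_four h hc hg (Finset.univ.map x) (by simp) fun y hy => ?_)
  obtain ⟨i, -, rfl⟩ := Finset.mem_map.1 hy
  exact congrArg (fun f : Fin 4 ↪ α => f i) (mem_stabilizer_iff.1 hx)

include h hc in
theorem four_transitive : IsMultiplyPretransitive H α 4 := by
  rw [isMultiplyPretransitive_iff]
  intro x y
  have hidx : (stabilizer H x).index = 7920 := by rw [stabilizer_four h hc x, Subgroup.index_bot, hc]
  have htot : Nat.card (Fin 4 ↪ α) = 7920 := by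
    rw [Nat.card_eq_fintype_card, Fintype.card_embedding_eq, Fintype.card_fin, h.card]
    rfl
  rw [index_stabilizer] at hidx
  have heq : orbit H x = Set.univ := by
    refine Set.eq_of_subset_of_ncard_le (Set.subset_univ _) ?_ (Set.toFinite _)
    rw [Set.ncard_univ, htot]
    exact hidx.ge
  have : y ∈ orbit H x := by rw [heq]; exact Set.mem_univ y
  obtain ⟨g, hg⟩ := this
  exact ⟨g, hg⟩

end CfsgLib.Perm.Eleven
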