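import Cfsg.Agent.Lib.Perm.DegreeEleven.Points

/-!
In order 7920 elements of order three fix exactly two points.
-/

set_option autoImplicit false
set_option linter.style.haveILetI false
set_option linter.unusedSectionVars false

namespace CfsgLib.Perm.Eleven

open MulAction Equiv Equiv.Perm

variable {α : Type*} [Fintype α] [DecidableEq α] {H : Subgroup (Perm α)}

/-- three points with stabiliser of order twenty-four -/
def Rel (H : Subgroup (Perm α)) (a b c : α) : Prop :=
  a ≠ b ∧ a ≠ c ∧ b ≠ c ∧ Nat.card ↥(triSt H a b c) = 24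

theorem Rel.right {a b c : α} (h : Rel H a b c) : Rel H a c b := by
  obtain ⟨h1, h2, h3, h4⟩ := h
  refine ⟨h2, h1, h3.symm, ?_⟩
  have e : triSt H a c b = triSt H a b c := by
    ext g; simp only [mem_triSt]; tauto
  rw [e, h4]

theorem Rel.left {a b c : α} (h : Rel H a b c) : Rel H b a c := by
  obtain ⟨h1, h2, h3, h4⟩ := h
  refine ⟨h1.symm, h3, h2, ?_⟩
  have e : triSt H b a c = triSt H a b c := by
    ext g; simp only [mem_triSt]; tauto
  rw [e, h4]

theorem card_triSt_map {g : Perm α} (hg : g ∈ H) (a b c : α) :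
    Nat.card ↥(triSt H (g a) (g b) (g c)) = Nat.card ↥(triSt H a b c) := by
  have e : triSt H (g a) (g b) (g c) = (triSt H a b c).map (MulAut.conj g).toMonoidHom := by
    ext x
    rw [Subgroup.mem_map_equiv, MulAut.conj_symm_apply, mem_triSt, mem_triSt]
    have hiff : g⁻¹ * x * g ∈ H ↔ x ∈ H := by
      rw [H.mul_mem_cancel_right hg, H.mul_mem_cancel_left (inv_mem hg)]
    simp only [hiff, Perm.mul_apply, Perm.inv_eq_iff_eq]
  rw [e]
  exact Subgroup.card_map_of_injective (MulAut.conj g).injective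

theorem Rel.map {g : Perm α} (hg : g ∈ H) {a b c : α} (h : Rel H a b c) :
    Rel H (g a) (g b) (g c) :=
  ⟨g.injective.ne h.1, g.injective.ne h.2.1, g.injective.ne h.2.2.1,
    (card_triSt_map hg a b c).trans h.2.2.2⟩

/-- an element of order three fixing at least four points exists -/
def HasSix (H : Subgroup (Perm α)) : Prop :=
  ∃ u ∈ H, orderOf u = 3 ∧ u.support.card = 6

variable (h : Even11 H) (hc : Nat.card H = 7920)

include h hc in
theorem card_pair {a b : α} (hab : a ≠ b) : Nat.card ↥(pairSt H a b) = 72 := by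
  have := h.card_pairSt hab
  omega

include h hc in
theorem orbit_cases {a b c : α} (hab : a ≠ b) (hca : c ≠ a) (hcb : c ≠ b) :
    (Nat.card (orbit (pairSt H a b) c) = 3 ∧ Nat.card ↥(triSt H a b c) = 24) ∨
    (Nat.card (orbit (pairSt H a b) c) = 6 ∧ Nat.card ↥(triSt H a b c) = 12) ∨
    (Nat.card (orbit (pairSt H a b) c) = 9 ∧ Nat.card ↥(triSt H a b c) = 8) := by
  have hmul := orbit_mul_card (pairSt H a b) c
  rw [card_pair h hc hab] at hmul
  have hle := orbit_pair_le (H := H) h.card hab hca hcb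
  have h9 : ¬ 9 ∣ Nat.card ↥(triSt H a b c) := by
    intro hd
    obtain ⟨Q, hQ⟩ := @Sylow.exists_subgroup_card_pow_prime ↥(triSt H a b c) _ _ 3 2
      (Fact.mk Nat.prime_three) (by simpa using hd)
    refine h.toSmall.no_nine (Q := Q.map (triSt H a b c).subtype) ?_ ?_ hab hca.symm hcb.symm ?_
    · rintro _ ⟨g, -, rfl⟩
      exact (mem_triSt.1 g.2).1
    · rw [Subgroup.card_map_of_injective (triSt H a b c).subtype_injective, hQ]; rfl
    · rintro _ ⟨g, -, rfl⟩
      exact (mem_triSt.1 g.2).2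
  generalize Nat.card (orbit (pairSt H a b) c) = o at hmul hle ⊢
  change o * Nat.card ↥(triSt H a b c) = 72 at hmul
  generalize Nat.card ↥(triSt H a b c) = k at hmul h9 ⊢
  interval_cases o <;> omega

include h hc in
theorem exists_fix_three (h6 : HasSix H) {a b : α} (hab : a ≠ b) :
    ∃ c, c ≠ a ∧ c ≠ b ∧ 3 ∣ Nat.card ↥(triSt H a b c) := by
  obtain ⟨u, hu, ho, hs⟩ := h6
  have hF : 2 < u.supportᶜ.card := by have := card_fixed u; rw [h.card] at this; omega
  obtain ⟨p, q, r, hp, hq, hr, hpq, hpr, hqr⟩ := Finset.two_lt_card_iff.1 hF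
  simp only [Finset.mem_compl, mem_support, not_not] at hp hq hr
  obtain ⟨g, hg, rfl, rfl⟩ := h.map_two hpq hab
  refine ⟨g r, g.injective.ne hpr.symm, g.injective.ne hqr.symm, ?_⟩
  rw [card_triSt_map hg, ← ho]
  exact Subgroup.orderOf_dvd_natCard _ (mem_triSt.2 ⟨hu, hp, hq, hr⟩)

include h hc in
theorem rel_exists (h6 : HasSix H) {a b : α} (hab : a ≠ b) : ∃ c, Rel H a b c := by
  classical
  obtain ⟨c₀, h0a, h0b, h03⟩ := exists_fix_three h hc h6 hab
  by_contra! hno
  have hno' : ∀ c, c ≠ a → c ≠ b → Nat.card ↥(triSt H a b c) ≠ 24 :=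
    fun c ha hb e => hno c ⟨hab, ha.symm, hb.symm, e⟩
  rcases orbit_cases h hc hab h0a h0b with ⟨-, e⟩ | ⟨e6, -⟩ | ⟨-, e⟩
  · exact hno' _ h0a h0b e
  swap
  · omega
  -- a point outside the orbit of length six
  let O : Finset α := (orbit (pairSt H a b) c₀).toFinset
  have hO : O.card = 6 := by
    rw [Set.toFinset_card, ← Nat.card_eq_fintype_card, e6]
  have hR : ((O ∪ {a, b})ᶜ).card = 3 := by
    rw [Finset.card_compl, Finset.card_union_of_disjoint, hO, Finset.card_pair hab, h.card]
    rw [Finset.disjoint_left]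
    intro x hx hx'
    obtain ⟨g, rfl⟩ := Set.mem_toFinset.1 hx
    obtain ⟨-, ga, gb⟩ := mem_pairSt.1 g.2
    simp only [Finset.mem_insert, Finset.mem_singleton] at hx'
    rcases hx' with e | e
    · exact ne_of_ne ga h0a e
    · exact ne_of_ne gb h0b e
  obtain ⟨d, hd⟩ := Finset.card_pos.1 (by rw [hR]; norm_num : 0 < ((O ∪ {a, b})ᶜ).card)
  have hd' := hd
  simp only [Finset.mem_compl, Finset.mem_union, Finset.mem_insert, Finset.mem_singleton,
    not_or, O, Set.mem_toFinset] at hd'
  have hle : Nat.card (orbit (pairSt H a b) d) ≤ 3 := by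
    refine (orbit_card_le ((O ∪ {a, b})ᶜ) fun g hg => ?_).trans hR.le
    obtain ⟨-, ga, gb⟩ := mem_pairSt.1 hg
    simp only [Finset.mem_compl, Finset.mem_union, Finset.mem_insert, Finset.mem_singleton,
      not_or, O, Set.mem_toFinset]
    refine ⟨fun hm => hd'.1 ?_, ne_of_ne ga hd'.2.1, ne_of_ne gb hd'.2.2⟩
    have := orbit_maps g⁻¹ (inv_mem hg) hm
    simpa using this
  rcases orbit_cases h hc hab hd'.2.1 hd'.2.2 with ⟨-, e⟩ | ⟨e, -⟩ | ⟨e, -⟩
  · exact hno' _ hd'.2.1 hd'.2.2 e
  all_goals omega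

include h hc in
theorem rel_unique {a b c c' : α} (h1 : Rel H a b c) (h2 : Rel H a b c') :
    c' ∈ orbit (pairSt H a b) c := by
  classical
  obtain ⟨hab, hac, hbc, hk⟩ := h1
  obtain ⟨-, hac', hbc', hk'⟩ := h2
  by_contra hnot
  set K := pairSt H a b with hK
  have orb3 : ∀ x, x ≠ a → x ≠ b → Nat.card ↥(triSt H a b x) = 24 →
      Nat.card (orbit K x) = 3 := fun x hxa hxb e => by
    rcases orbit_cases h hc hab hxa hxb with ⟨e', -⟩ | ⟨-, e'⟩ | ⟨-, e'⟩
    · exact e'
    all_goals omega
  have o1 := orb3 c hac.symm hbc.symm hk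
  have o2 := orb3 c' hac'.symm hbc'.symm hk'
  let O1 : Finset α := (orbit K c).toFinset
  let O2 : Finset α := (orbit K c').toFinset
  have hO1 : O1.card = 3 := by rw [Set.toFinset_card, ← Nat.card_eq_fintype_card, o1]
  have hO2 : O2.card = 3 := by rw [Set.toFinset_card, ← Nat.card_eq_fintype_card, o2]
  have hdis : Disjoint O1 O2 := by
    rw [Finset.disjoint_left]
    intro x hx hx'
    apply hnot
    rw [Set.mem_toFinset] at hx hx'
    have e1 := orbit_eq_iff.2 hx
    have e2 := orbit_eq_iff.2 hx'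
    rw [← e1, e2]
    exact mem_orbit_self c'
  obtain ⟨c1, hc1, hc1c⟩ := Finset.exists_mem_ne (by rw [hO1]; norm_num) c
  obtain ⟨c1', hc1', hc1c'⟩ := Finset.exists_mem_ne (by rw [hO2]; norm_num) c'
  have hcO : c ∈ O1 := Set.mem_toFinset.2 (mem_orbit_self c)
  have hcO' : c' ∈ O2 := Set.mem_toFinset.2 (mem_orbit_self c')
  have maps1 : ∀ g ∈ K, ∀ x ∈ O1, g x ∈ O1 := fun g hg x hx =>
    Set.mem_toFinset.2 (orbit_maps g hg (Set.mem_toFinset.1 hx))
  have maps2 : ∀ g ∈ K, ∀ x ∈ O2, g x ∈ O2 := fun g hg x hx =>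
    Set.mem_toFinset.2 (orbit_maps g hg (Set.mem_toFinset.1 hx))
  set K1 := K ⊓ stabilizer (Perm α) c with hK1
  set K2 := K1 ⊓ stabilizer (Perm α) c' with hK2
  set K3 := K2 ⊓ stabilizer (Perm α) c1 with hK3
  set K4 := K3 ⊓ stabilizer (Perm α) c1' with hK4
  have step : ∀ (L : Subgroup (Perm α)) (x : α) (s : Finset α) (m : ℕ), (∀ g ∈ L, g x ∈ s) →
      s.card ≤ m → Nat.card L ≤ m * Nat.card ↥(L ⊓ stabilizer (Perm α) x) := fun L x s m hs hm =>
    (orbit_mul_card L x).ge.trans (Nat.mul_le_mul_right _ ((orbit_card_le s hs).trans hm))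
  have k2 : Nat.card K1 ≤ 3 * Nat.card K2 :=
    step K1 c' O2 3 (fun g hg => maps2 g hg.1 _ hcO') hO2.le
  have k3 : Nat.card K2 ≤ 2 * Nat.card K3 :=
    step K2 c1 (O1.erase c) 2 (fun g hg => Finset.mem_erase.2
      ⟨ne_of_ne hg.1.2 hc1c, maps1 g hg.1.1 _ hc1⟩) (by rw [Finset.card_erase_of_mem hcO, hO1])
  have k4 : Nat.card K3 ≤ 2 * Nat.card K4 :=
    step K3 c1' (O2.erase c') 2 (fun g hg => Finset.mem_erase.2
      ⟨ne_of_ne hg.1.2 hc1c', maps2 g hg.1.1.1 _ hc1'⟩) (by rw [Finset.card_erase_of_mem hcO', hO2])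
  have e24 : Nat.card K1 = 24 := hk
  have hnb : K4 ≠ ⊥ := fun e => by rw [e, Subgroup.card_bot] at k4; omega
  obtain ⟨v, hv, hv1⟩ : ∃ v ∈ K4, v ≠ 1 := by
    by_contra! hall
    exact hnb ((Subgroup.eq_bot_iff_forall _).2 hall)
  have hv4 : v c1' = c1' := mem_stab.1 hv.2
  have hv3 : v c1 = c1 := mem_stab.1 hv.1.2
  have hv2 : v c' = c' := mem_stab.1 hv.1.1.2
  have hv0 : v c = c := mem_stab.1 hv.1.1.1.2
  have hvK : v ∈ K := hv.1.1.1.1
  obtain ⟨hvH, hva, hvb⟩ := mem_pairSt.1 hvK
  have third : ∀ (O : Finset α) (p q : α), O.card = 3 → p ∈ O → q ∈ O → p ≠ q →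
      (∀ x ∈ O, v x ∈ O) → v p = p → v q = q → ∀ x ∈ O, v x = x := by
    intro O p q hO hp hq hpq hm hvp hvq x hx
    by_cases hxp : x = p
    · rw [hxp, hvp]
    by_cases hxq : x = q
    · rw [hxq, hvq]
    have hsub : ({p, q} : Finset α) ⊆ O := by
      intro y hy; simp only [Finset.mem_insert, Finset.mem_singleton] at hy
      rcases hy with rfl | rfl <;> assumption
    have hone : (O \ {p, q}).card = 1 := by
      rw [Finset.card_sdiff_of_subset hsub, hO, Finset.card_pair hpq]
    obtain ⟨w, hw⟩ := Finset.card_eq_one.1 hone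
    have m1 : x ∈ O \ {p, q} := by simp [hx, hxp, hxq]
    have m2 : v x ∈ O \ {p, q} := by
      simp only [Finset.mem_sdiff, Finset.mem_insert, Finset.mem_singleton, not_or]
      exact ⟨hm x hx, ne_of_ne hvp hxp, ne_of_ne hvq hxq⟩
    rw [hw, Finset.mem_singleton] at m1 m2
    rw [m2, m1]
  have f1 := third O1 c c1 hO1 hcO hc1 hc1c.symm (maps1 v hvK) hv0 hv3
  have f2 := third O2 c' c1' hO2 hcO' hc1' hc1c'.symm (maps2 v hvK) hv2 hv4
  refine hv1 (h.toSmall.eq_one_of_support hvH ?_)
  have hs := support_le h.card (g := v) ((O1 ∪ O2) ∪ {a, b}) fun x hx => by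
    simp only [Finset.mem_union, Finset.mem_insert, Finset.mem_singleton] at hx
    rcases hx with (hx | hx) | rfl | rfl
    exacts [f1 x hx, f2 x hx, hva, hvb]
  rw [Finset.card_union_of_disjoint, Finset.card_union_of_disjoint hdis, hO1, hO2,
    Finset.card_pair hab] at hs
  · omega
  rw [Finset.disjoint_left]
  intro x hx hx'
  simp only [Finset.mem_union, O1, O2, Set.mem_toFinset] at hx
  simp only [Finset.mem_insert, Finset.mem_singleton] at hx'
  rcases hx with hx | hx <;>
  · obtain ⟨g, rfl⟩ := hx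
    obtain ⟨-, ga, gb⟩ := mem_pairSt.1 g.2
    rcases hx' with e | e
    · first | exact ne_of_ne ga hac.symm e | exact ne_of_ne ga hac'.symm e
    · first | exact ne_of_ne gb hbc.symm e | exact ne_of_ne gb hbc'.symm e

open Classical in
/-- the third points -/
noncomputable def delta (H : Subgroup (Perm α)) (a b : α) : Finset α :=
  Finset.univ.filter fun c => Rel H a b c

theorem mem_delta {a b c : α} : c ∈ delta H a b ↔ Rel H a b c := by
  simp [delta]

include h hc in
theorem card_delta (h6 : HasSix H) {a b : α} (hab : a ≠ b) : (delta H a b).card = 3 := by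
  obtain ⟨c, hr⟩ := rel_exists h hc h6 hab
  have heq : ((delta H a b : Finset α) : Set α) = orbit (pairSt H a b) c := by
    ext x
    rw [Finset.mem_coe, mem_delta]
    refine ⟨fun hx => rel_unique h hc hr hx, ?_⟩
    rintro ⟨g, rfl⟩
    obtain ⟨gH, ga, gb⟩ := mem_pairSt.1 g.2
    have := hr.map gH
    rwa [ga, gb] at this
  rw [← Set.ncard_coe_finset, heq, ← Nat.card_coe_set_eq]
  rcases orbit_cases h hc hab hr.2.1.symm hr.2.2.1.symm with ⟨e, -⟩ | ⟨-, e⟩ | ⟨-, e⟩
  · exact e
  all_goals have := hr.2.2.2; omega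

include h hc in
/-- if `u` of order three fixes a related triple it fixes all third points of each pair in it -/
theorem fixes_delta (h6 : HasSix H) {u : Perm α} (hu : u ∈ H) (ho : orderOf u = 3) {p q r : α}
    (hrel : Rel H p q r) (hp : u p = p) (hq : u q = q) (hr : u r = r) :
    ∀ x ∈ delta H p q, u x = x := by
  have hmap : ∀ x ∈ delta H p q, u x ∈ delta H p q := fun x hx => by
    have := (mem_delta.1 hx).map hu
    rw [hp, hq] at this
    exact mem_delta.2 this
  intro x hx
  by_contra hne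
  have h2 : u (u x) ≠ u x := fun e => hne (u.injective e)
  have hu3 : u (u (u x)) = x := by
    have : (u ^ 3) x = x := by rw [← ho, pow_orderOf_eq_one]; rfl
    simpa [pow_succ, Perm.mul_apply] using this
  have h3 : u (u x) ≠ x := fun e => hne (by have := congrArg u e; rw [hu3] at this; exact this.symm)
  have hxr : x ≠ r := fun e => hne (e ▸ hr)
  have h1r : u x ≠ r := ne_of_ne hr hxr
  have h2r : u (u x) ≠ r := ne_of_ne hr h1r
  have hsub : ({x, u x, u (u x), r} : Finset α) ⊆ delta H p q := by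
    intro y hy
    simp only [Finset.mem_insert, Finset.mem_singleton] at hy
    rcases hy with rfl | rfl | rfl | rfl
    exacts [hx, hmap _ hx, hmap _ (hmap _ hx), mem_delta.2 hrel]
  have := Finset.card_le_card hsub
  rw [card_delta h hc h6 hrel.1,
    Finset.card_insert_of_notMem (by simp [hxr, Ne.symm hne, h3.symm]),
    Finset.card_insert_of_notMem (by simp [h1r, h2.symm]),
    Finset.card_pair h2r] at this
  omega

include h hc in
theorem not_hasSix : ¬ HasSix H := by
  classical
  intro h6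
  obtain ⟨a⟩ : Nonempty α := Fintype.card_pos_iff.1 (by rw [h.card]; norm_num)
  let S : α → Finset α := fun b => insert b (delta H a b)
  have hS : ∀ b, b ≠ a → (S b).card = 4 := fun b hb => by
    rw [Finset.card_insert_of_notMem, card_delta h hc h6 hb.symm]
    exact fun e => (mem_delta.1 e).2.2.1 rfl
  have hkey : ∀ b, b ≠ a → ∀ x ∈ delta H a b, S x = S b := by
    intro b hb x hx
    have hr := mem_delta.1 hx
    obtain ⟨u, hu, ho⟩ := exists_orderOf_of_dvd (K := triSt H a b x) Nat.prime_three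
      (by rw [hr.2.2.2]; norm_num)
    obtain ⟨huH, hua, hub, hux⟩ := mem_triSt.1 hu
    have hsup := support_le h.card (g := u) {a, b, x} fun y hy => by
      simp only [Finset.mem_insert, Finset.mem_singleton] at hy
      rcases hy with rfl | rfl | rfl <;> assumption
    rw [Finset.card_eq_three.2 ⟨a, b, x, hr.1, hr.2.1, hr.2.2.1, rfl⟩] at hsup
    have hF : (u.supportᶜ.erase a).card = 4 := by
      rw [Finset.card_erase_of_mem (by simpa using hua)]
      have := card_fixed u
      rw [h.card] at this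
      rcases h.toSmall.support_three huH ho with e | e <;> omega
    have sub : ∀ p q, Rel H a p q → u p = p → u q = q → S p = u.supportᶜ.erase a := by
      intro p q hpq hup huq
      refine Finset.eq_of_subset_of_card_le (fun y hy => ?_) (by rw [hF, hS p hpq.1.symm])
      rw [Finset.mem_erase, Finset.mem_compl, mem_support, not_not]
      rcases Finset.mem_insert.1 hy with rfl | hy
      · exact ⟨hpq.1.symm, hup⟩
      · exact ⟨(mem_delta.1 hy).2.1.symm, fixes_delta h hc h6 huH ho hpq hua hup huq y hy⟩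
    rw [sub x b hr.right hux hub, sub b x hr hub hux]
  have hmem : ∀ b ∈ Finset.univ.erase a, b ≠ a := fun b hb => Finset.ne_of_mem_erase hb
  have hsum := Finset.card_eq_sum_card_image S (Finset.univ.erase a)
  rw [Finset.card_erase_of_mem (Finset.mem_univ a), Finset.card_univ, h.card,
    Finset.sum_congr rfl (g := fun _ => 4) fun T hT => ?_] at hsum
  · rw [Finset.sum_const, smul_eq_mul] at hsum
    omega
  obtain ⟨b, hb, rfl⟩ := Finset.mem_image.1 hT
  have hfib : (Finset.univ.erase a).filter (fun x => S x = S b) = S b := by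
    ext x
    simp only [Finset.mem_filter, Finset.mem_erase, Finset.mem_univ, and_true]
    constructor
    · rintro ⟨-, e⟩
      rw [← e]
      exact Finset.mem_insert_self _ _
    · intro hx
      rcases Finset.mem_insert.1 hx with rfl | hx'
      · exact ⟨hmem _ hb, rfl⟩
      · exact ⟨(mem_delta.1 hx').2.1.symm, hkey b (hmem _ hb) x hx'⟩
  rw [hfib, hS b (hmem _ hb)]

include h hc in
theorem three_7920 {u : Perm α} (hu : u ∈ H) (ho : orderOf u = 3) : u.support.card = 9 :=
  (h.toSmall.support_three hu ho).resolve_left fun e => not_hasSix h hc ⟨u, hu, ho, e⟩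

end CfsgLib.Perm.Eleven
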